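import Groth.Agent.L17.Simpson.FreeAt
import Groth.Agent.L16.CohSupport
import Groth.Agent.L20.FibreModuleScheme
import Mathlib.Topology.KrullDimension

/-!
# Maps which vanish at a point
-/

set_option autoImplicit false
set_option linter.style.haveILetI false
set_option backward.isDefEq.respectTransparency false
set_option backward.isDefEq.respectTransparency.types false

universe u

open CategoryTheory CategoryTheory.Limits AlgebraicGeometry
open scoped TensorProduct

noncomputable section

namespace Groth.L17.Simpson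

/-- A closed subset of full finite dimension of an irreducible space is everything. -/
theorem closed_eq_univ {T : Type*} [TopologicalSpace T] [IrreducibleSpace T] {S : Set T} (hS : IsClosed S)
    {d : ℕ} (hT : topologicalKrullDim T = (d : WithBot ℕ∞)) (h : topologicalKrullDim S = (d : WithBot ℕ∞)) :
    S = Set.univ := by
  by_contra hne
  obtain ⟨l, hl⟩ := Order.le_krullDim_iff.1 (le_of_eq h.symm)
  let top : TopologicalSpace.IrreducibleCloseds T :=
    ⟨Set.univ, IrreducibleSpace.isIrreducible_univ T, isClosed_univ⟩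
  let l' := l.map _ (TopologicalSpace.IrreducibleCloseds.map_strictMono_of_isInducing
    (Topology.IsInducing.subtypeVal (t := S)))
  have hlt : l'.last < top := by
    refine lt_of_le_of_ne (fun _ _ => trivial) fun he => hne (Set.eq_univ_of_univ_subset ?_)
    have h1 : (Set.univ : Set T) = closure (Subtype.val '' (l.last : Set S)) := by
      change (top : Set T) = _
      rw [← he]
      simp only [l', LTSeries.last_map]
      rfl
    rw [h1]
    exact closure_minimal (Subtype.coe_image_subset S _) hS
  have := Order.LTSeries.length_le_krullDim (l'.snoc top hlt)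
  rw [show Order.krullDim (TopologicalSpace.IrreducibleCloseds T) = _ from hT,
    RelSeries.snoc_length] at this
  simp only [l', LTSeries.map_length, hl] at this
  exact absurd (Nat.cast_le.1 (by exact_mod_cast this : ((d + 1 : ℕ) : WithBot ℕ∞) ≤ (d : ℕ))) (by omega)

/-- A vector killed in a field over the residue field lies in `𝔪 • M`. -/
theorem mem_smul_of_one_tmul {A K M : Type u} [CommRing A] [IsLocalRing A] [Field K] [Algebra A K]
    [IsLocalHom (algebraMap A K)] [AddCommGroup M] [Module A M] {w : M} (h : (1 : K) ⊗ₜ[A] w = 0) :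
    w ∈ IsLocalRing.maximalIdeal A • (⊤ : Submodule A M) := by
  by_contra hw
  let N := M ⧸ (IsLocalRing.maximalIdeal A • (⊤ : Submodule A M))
  let q : M →ₗ[A] N := Submodule.mkQ _
  have hq : q w ≠ 0 := fun h' => hw ((Submodule.Quotient.mk_eq_zero _).1 h')
  haveI : (IsLocalRing.maximalIdeal A).IsMaximal := inferInstance
  letI : Field (A ⧸ IsLocalRing.maximalIdeal A) := Ideal.Quotient.field _
  let v : N := q w
  obtain ⟨lam, hlam⟩ : ∃ lam : N →ₗ[A ⧸ IsLocalRing.maximalIdeal A] (A ⧸ IsLocalRing.maximalIdeal A), lam v ≠ 0 := by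
    by_contra hc
    push Not at hc
    exact hq ((Module.forall_dual_apply_eq_zero_iff _ v).1 hc)
  have hker : ∀ a ∈ IsLocalRing.maximalIdeal A, algebraMap A K a = 0 := fun a ha => by
    by_contra h'
    exact ha (isUnit_of_map_unit (algebraMap A K) a (isUnit_iff_ne_zero.2 h'))
  let ι' : (A ⧸ IsLocalRing.maximalIdeal A) →ₐ[A] K := Ideal.Quotient.liftₐ _ (Algebra.ofId A K) hker
  let g : M →ₗ[A] K := ι'.toLinearMap ∘ₗ (lam.restrictScalars A) ∘ₗ q
  have := congrArg (LinearMap.mul' A K ∘ₗ LinearMap.lTensor K g) h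
  simp only [LinearMap.coe_comp, Function.comp_apply, LinearMap.lTensor_tmul, LinearMap.mul'_apply,
    one_mul, map_zero] at this
  exact hlam (ι'.toRingHom.injective (this.trans (map_zero _).symm))

variable {X Z : Scheme.{u}}

/-- A map whose pullback to a field-valued point vanishes maps the stalk into `𝔪 • F`. -/
theorem stalk_mem_of_pullback_eq_zero {E F : X.Modules} (f : E ⟶ F) (g : Z ⟶ X) (p : Z)
    (hp : IsField (Z.presheaf.stalk p)) (h : (Scheme.Modules.pullback g).map f = 0)
    (e : (Groth.L00.Stk.F X (g p)).obj E) :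
    (Groth.L00.Stk.F X (g p)).map f e ∈ IsLocalRing.maximalIdeal (X.presheaf.stalk (g p)) •
      (⊤ : Submodule (X.presheaf.stalk (g p)) ((Groth.L00.Stk.F X (g p)).obj F)) := by
  let φ := Groth.L00.PullStalk.φ g p
  letI := φ.toAlgebra
  letI : Field (Z.presheaf.stalk p) := hp.toField
  have hnat := (Groth.L00.PullStalk.stalkIso g p).hom.naturality f
  have h0 : (ModuleCat.extendScalars φ).map ((Groth.L00.Stk.F X (g p)).map f) = 0 := by
    refine (cancel_epi ((Groth.L00.PullStalk.stalkIso g p).hom.app E)).1 ?_
    refine hnat.symm.trans ?_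
    simp only [Functor.comp_map, h, Functor.map_zero, zero_comp, comp_zero]
  have h1 := congrArg (fun ψ => ψ ((1 : Z.presheaf.stalk p) ⊗ₜ[X.presheaf.stalk (g p)] e)) h0
  haveI : IsLocalHom (algebraMap (X.presheaf.stalk (g p)) (Z.presheaf.stalk p)) :=
    inferInstanceAs (IsLocalHom (g.stalkMap p).hom)
  exact mem_smul_of_one_tmul (K := Z.presheaf.stalk p) h1

/-- A map into `F` with flat cokernel, vanishing modulo `𝔪`, has zero image at the point. -/
theorem subsingleton_image_stalk [IsLocallyNoetherian X] {E I F : X.Modules} (p : E ⟶ I) [Epi p]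
    (i : I ⟶ F) [Mono i] (hI : Coh.IsCoh I) (hF : Coh.IsCoh F) {x : X} (hC : Fl (cokernel i) x)
    (h : ∀ e, (Groth.L00.Stk.F X x).map (p ≫ i) e ∈ IsLocalRing.maximalIdeal (X.presheaf.stalk x) •
      (⊤ : Submodule (X.presheaf.stalk x) ((Groth.L00.Stk.F X x).obj F))) :
    Subsingleton ((Groth.L00.Stk.F X x).obj I) := by
  let Φ := Groth.L00.Stk.F X x
  haveI : Module.Finite (X.presheaf.stalk x) (Φ.obj I) :=
    Groth.L20.FibreModule.finite_stalk I hI.1 (Groth.L15.Ref.isFP_of_isCoh hI) x
  haveI : Module.Finite (X.presheaf.stalk x) (Φ.obj F) :=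
    Groth.L20.FibreModule.finite_stalk F hF.1 (Groth.L15.Ref.isFP_of_isCoh hF) x
  have hS := (ShortComplex.ShortExact.mk (ShortComplex.exact_cokernel i) :
      (ShortComplex.mk i (cokernel.π i) (cokernel.condition i)).ShortExact).map_of_exact Φ
  have hi : Function.Injective (Φ.map i).hom := hS.moduleCat_injective_f
  have hπ : Function.Surjective (Φ.map (cokernel.π i)).hom := hS.moduleCat_surjective_g
  have hex : Function.Exact (Φ.map i).hom (Φ.map (cokernel.π i)).hom :=
    (ShortComplex.ShortExact.moduleCat_exact_iff_function_exact _).1 hS.exact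
  haveI : Module.Flat (X.presheaf.stalk x) (Φ.obj (cokernel i)) := hC
  haveI : Module.Finite (X.presheaf.stalk x) (Φ.obj (cokernel i)) := Module.Finite.of_surjective _ hπ
  haveI : Module.Free (X.presheaf.stalk x) (Φ.obj (cokernel i)) := Module.free_of_flat_of_isLocalRing
  obtain ⟨s, hs⟩ := Module.projective_lifting_property (Φ.map (cokernel.π i)).hom LinearMap.id hπ
  have hmem : ∀ w, w - s ((Φ.map (cokernel.π i)).hom w) ∈ LinearMap.range (Φ.map i).hom := fun w => by
    rw [← LinearMap.exact_iff.1 hex, LinearMap.mem_ker, map_sub, ← LinearMap.comp_apply _ s, hs,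
      LinearMap.id_apply, sub_self]
  let r : Φ.obj F →ₗ[X.presheaf.stalk x] Φ.obj I :=
    (LinearEquiv.ofInjective _ hi).symm.toLinearMap ∘ₗ
      (LinearMap.id - s ∘ₗ (Φ.map (cokernel.π i)).hom).codRestrict _ hmem
  have hr : ∀ v, r ((Φ.map i).hom v) = v := fun v => by
    apply (LinearEquiv.ofInjective _ hi).injective
    simp only [r, LinearMap.coe_comp, LinearEquiv.coe_coe, Function.comp_apply,
      LinearEquiv.apply_symm_apply]
    refine Subtype.ext ?_
    simp [hex.apply_apply_eq_zero v]
  haveI : Epi (Φ.map p) := inferInstance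
  have hle : (⊤ : Submodule (X.presheaf.stalk x) (Φ.obj I)) ≤
      IsLocalRing.maximalIdeal (X.presheaf.stalk x) • (⊤ : Submodule (X.presheaf.stalk x) (Φ.obj I)) := by
    intro v _
    obtain ⟨e, rfl⟩ := (ModuleCat.epi_iff_surjective (Φ.map p)).1 inferInstance v
    have := Submodule.mem_map_of_mem (f := r) (h e)
    rw [Submodule.map_smul''] at this
    refine Submodule.smul_mono le_rfl (le_top : Submodule.map r ⊤ ≤ ⊤) ?_
    convert this using 1
    rw [Functor.map_comp]
    exact (hr _).symm
  have := Submodule.eq_bot_of_le_smul_of_le_jacobson_bot _ _ Module.Finite.fg_top hle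
    (IsLocalRing.maximalIdeal_le_jacobson _)
  exact (Submodule.subsingleton_iff _).1 (subsingleton_of_bot_eq_top this.symm)

end Groth.L17.Simpson
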