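import Groth.Agent.L17.Simpson.GrLocFree
import Groth.Agent.L17.Simpson.FibreZero
import Groth.Agent.L17.ClosedSupp

/-!
# A map of semistable sheaves vanishing at a point where the graded is free
-/

set_option autoImplicit false
set_option linter.style.haveILetI false
set_option linter.unusedSectionVars false
set_option backward.isDefEq.respectTransparency false

universe u

open CategoryTheory CategoryTheory.Limits AlgebraicGeometry Polynomial StabCat
open Groth.L03.Euler Groth.L03.ShStab Groth.L03.ShStab.Basic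

noncomputable section

namespace Groth.L17.Simpson

variable {k : Type u} [Field k] {X : Scheme.{u}} [X.Over (Spec (CommRingCat.of k))]
  [IsProper (X ↘ Spec (CommRingCat.of k))] {L : X.Modules} {d : ℕ}

theorem fl_of_series {E : X.Modules} (s : LTSeries (Subobject E)) (h0 : s.head = ⊥) (h1 : s.last = ⊤)
    {x : X} (h : ∀ i : Fin s.length, Fl (StabCat.factor s i) x) : Fl E x := by
  have hall : ∀ i : Fin (s.length + 1), Fl ((s i : Subobject E) : X.Modules) x := fun i => by
    induction i using Fin.induction with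
    | zero =>
      rw [show s 0 = ⊥ from h0]
      exact fl_zero (IsZero.of_iso (isZero_zero _) Subobject.botCoeIsoZero) x
    | succ i ih =>
      exact fl_ext _ _ _ (Bridge.shortExact_ofLE (le_of_lt (s.step i))) ih (h i)
  have h' := hall (Fin.last s.length)
  rw [show s (Fin.last s.length) = ⊤ from h1] at h'
  exact fl_iso (asIso (⊤ : Subobject E).arrow) h'

theorem isField_stalk_specField (K : Type u) [Field K] (p : Spec (CommRingCat.of K)) :
    IsField ((Spec (CommRingCat.of K)).presheaf.stalk p) := by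
  haveI : Subsingleton (Spec (CommRingCat.of K)) := inferInstanceAs (Subsingleton (PrimeSpectrum K))
  rw [Subsingleton.elim p (genericPoint (Spec (CommRingCat.of K)))]
  exact Groth.L17.ClosedSupp.isField_stalk_genericPoint _

theorem hom_eq_zero_at [IrreducibleSpace X] (hX : topologicalKrullDim X = (d : WithBot ℕ∞))
    (hL : CohB1.IsAmple L) {E F : X.Modules}
    (hE : _root_.ShStab.IsSemistable k X L E d) (hF : _root_.ShStab.IsSemistable k X L F d)
    {pE pF : ℚ[X]} (hpE : _root_.ShStab.IsHilbPoly k X L E pE) (hpF : _root_.ShStab.IsHilbPoly k X L F pF)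
    (hred : RedEq d pE pF) (x : X) (sF : LTSeries (Subobject F))
    (hsF : _root_.ShStab.IsJHFiltration k X L F d sF)
    (hgood : ∀ i : Fin sF.length, Fl (StabCat.factor sF i) x) (f : E ⟶ F)
    (h : ∀ e, (Groth.L00.Stk.F X x).map f e ∈ IsLocalRing.maximalIdeal (X.presheaf.stalk x) •
      (⊤ : Submodule (X.presheaf.stalk x) ((Groth.L00.Stk.F X x).obj F))) : f = 0 := by
  by_contra hf
  haveI := noetherian (k := k) (X := X)
  obtain ⟨pI, hpI, hI0, h1, h2, -, -⟩ := Schur.image_facts hL hE hF hpE hpF hf
  obtain ⟨-, hI, -⟩ := coh_parts k hE.1 hF.1 f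
  have hr : red d pE = red d pF := (PolyOrd.redEq_iff (Schur.alpha_pos_of_isSemistable hL hE hpE)
    (Schur.alpha_pos_of_isSemistable hL hF hpF)).1 hred
  have hαI := alpha_pos_sub hL hF.2.2.1 (Abelian.image.ι f) hI hI0 hpI
  have hredI : RedEq d pI pF := (PolyOrd.redEq_iff hαI (Schur.alpha_pos_of_isSemistable hL hF hpF)).2
    (PolyOrd.polyLE_antisymm h2 (hr ▸ h1))
  obtain ⟨-, sQ, hsQ, hQ⟩ := exists_jh_sub_quot hL hF ({x} : Set X) sF hsF
    (fun i z hz => by rw [Set.mem_singleton_iff.1 hz]; exact hgood i)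
    (Abelian.image.ι f) hI hpI hpF hredI
  have hC : Fl (cokernel (Abelian.image.ι f)) x :=
    fl_of_series sQ hsQ.1 hsQ.2.1 fun i => hQ i x rfl
  haveI := Basic.locallyNoetherian (k := k) (X := X)
  have hsub := subsingleton_image_stalk (Abelian.factorThruImage f) (Abelian.image.ι f) hI hF.1 hC
    (by rwa [Abelian.image.fac])
  have huniv : CohB1.support (Abelian.image f) = Set.univ :=
    closed_eq_univ (Groth.L16.CohSupport.isClosed_support _ hI.2) hX
      (hF.2.2.1 _ (Abelian.image.ι f) inferInstance hI hI0)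
  exact (huniv.symm ▸ Set.mem_univ x : x ∈ CohB1.support (Abelian.image f)) hsub

theorem hom_eq_zero_of_pullback [IrreducibleSpace X] (hX : topologicalKrullDim X = (d : WithBot ℕ∞))
    (hL : CohB1.IsAmple L) {E F : X.Modules}
    (hE : _root_.ShStab.IsSemistable k X L E d) (hF : _root_.ShStab.IsSemistable k X L F d)
    {pE pF : ℚ[X]} (hpE : _root_.ShStab.IsHilbPoly k X L E pE) (hpF : _root_.ShStab.IsHilbPoly k X L F pF)
    (hred : RedEq d pE pF) {K : Type u} [Field K] (ξ : Spec (CommRingCat.of K) ⟶ X)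
    (sF : LTSeries (Subobject F)) (hsF : _root_.ShStab.IsJHFiltration k X L F d sF)
    (hgr : ∀ x ∈ Set.range ξ.base, ∃ U : X.Opens, x ∈ U ∧ FlatMod.IsFinLocFree ((StabCat.grObj sF).restrict U.ι))
    (f : E ⟶ F) (h : (Scheme.Modules.pullback ξ).map f = 0) : f = 0 := by
  let p : Spec (CommRingCat.of K) := genericPoint (Spec (CommRingCat.of K))
  exact hom_eq_zero_at hX hL hE hF hpE hpF hred (ξ p) sF hsF
    (fun i => fl_factor_of_gr sF _ hgr i _ ⟨p, rfl⟩) f
    fun e => stalk_mem_of_pullback_eq_zero f ξ p (isField_stalk_specField K p) h e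

end Groth.L17.Simpson
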