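import Groth.Agent.S9769
import Groth.Agent.L17.Simpson.HomZero
import Groth.Agent.L16.ProjSpace.Basic

/-!
# Flat families: freeness along a section
-/

set_option autoImplicit false
set_option linter.style.haveILetI false
set_option backward.isDefEq.respectTransparency false
set_option backward.isDefEq.respectTransparency.types false

universe u

open CategoryTheory CategoryTheory.Limits AlgebraicGeometry

noncomputable section

namespace Groth.L17.Simpson

theorem free_of_fl {X : Scheme.{u}} [IsLocallyNoetherian X] {M : X.Modules} (hM : Coh.IsCoh M) {x : X}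
    (h : Fl M x) : Module.Free (X.presheaf.stalk x) (M.presheaf.stalk x) := by
  haveI := Groth.L20.FibreModule.finite_stalk M hM.1 (Groth.L15.Ref.isFP_of_isCoh hM) x
  haveI : Module.Flat (X.presheaf.stalk x) (M.presheaf.stalk x) := h
  exact Module.free_of_flat_of_isLocalRing

/-- For a flat coherent family, a flat stalk on a base change gives a flat stalk. -/
theorem fl_of_pullback {X S X' S' : Scheme.{u}} [IsLocallyNoetherian X] [IsLocallyNoetherian X'] (f : X ⟶ S)
    [LocallyOfFinitePresentation f] (F : X.Modules) (hF : Coh.IsCoh F) (hfl : FlatMod.IsFlatOver f F)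
    (g : S' ⟶ S) (f' : X' ⟶ S') (g' : X' ⟶ X) (hc : IsPullback g' f' f g) (y : X')
    (hG : Coh.IsCoh ((Scheme.Modules.pullback g').obj F)) (h : Fl ((Scheme.Modules.pullback g').obj F) y) :
    Fl F (g' y) := by
  have hfree : Module.Free (X.presheaf.stalk (g' y)) (F.presheaf.stalk (g' y)) :=
    (Set.ext_iff.1 (Groth.L20.FreeLocus.main f F (Groth.L15.Ref.isFP_of_isCoh hF) hfl g f' g' hc) y).1
      (free_of_fl hG h)
  haveI := hfree
  exact (inferInstance : Module.Flat (X.presheaf.stalk (g' y)) (F.presheaf.stalk (g' y)))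

theorem secT_fst {X S : Scheme.{u}} (f : X ⟶ S) (σ : S ⟶ X) (hσ : σ ≫ f = 𝟙 S) (T : Over S) (p : T.left) :
    pullback.fst f T.hom (PicF.secT f σ hσ T p) = (T.hom ≫ σ) p := by
  rw [← Scheme.Hom.comp_apply]
  congr 1
  simp [PicF.secT]

end Groth.L17.Simpson
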