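import Groth.Agent.L17.Simpson.Nilpotent
import Groth.Agent.L17.Simpson.HomZero
import Groth.Agent.L17.Simpson.Family
import Groth.Agent.L17.FlatPair.Flat
import Groth.Agent.L18.FiberStalk
import Groth.Agent.L16.AffineBC.Pullback
import Mathlib.AlgebraicGeometry.AlgClosed.Basic

/-!
# Maps of flat families over a finite type base vanishing along a section
-/

set_option autoImplicit false
set_option linter.style.haveILetI false
set_option backward.isDefEq.respectTransparency false
set_option backward.isDefEq.respectTransparency.types false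

universe u

open CategoryTheory CategoryTheory.Limits AlgebraicGeometry
open scoped TensorProduct

noncomputable section

namespace Groth.L17.Simpson

variable {X S F' : Scheme.{u}}

theorem ker_stalk_fibre (f : X ⟶ S) (ι : F' ⟶ X) (s : S) (p : F' ⟶ Spec (S.residueField s))
    (H : IsPullback ι p f (S.fromSpecResidueField s)) (y : F') :
    Function.Surjective (ι.stalkMap y).hom ∧ f (ι y) = s ∧ RingHom.ker (ι.stalkMap y).hom =
      Ideal.map (f.stalkMap (ι y)).hom (IsLocalRing.maximalIdeal (S.presheaf.stalk (f (ι y)))) := by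
  haveI : IsPreimmersion ι := MorphismProperty.of_isPullback (P := @IsPreimmersion) H.flip inferInstance
  have hy : f (ι y) = s := by
    rw [← Scheme.Hom.comp_apply, H.w, Scheme.Hom.comp_apply, Scheme.fromSpecResidueField_apply]
  refine ⟨SurjectiveOnStalks.stalkMap_surjective ι y, hy, ?_⟩
  subst hy
  exact Groth.L18.stalkMap_fiberι_aux f ι y (ι y) rfl p H

theorem fl_pullback {W : Scheme.{u}} (q : W ⟶ X) {F : X.Modules} (w : W) (h : Fl F (q w)) :
    Fl ((Scheme.Modules.pullback q).obj F) w :=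
  Groth.L00.TorAmp.flat_of_iso ((Groth.L00.PullStalk.stalkIso q w).app F)
    (Groth.L00.TorAmp.flat_extendScalars _ _ h)

theorem stalk_pullback_eq_zero {W : Scheme.{u}} (q : W ⟶ X) {E G : X.Modules} (ψ : E ⟶ G) (z : W)
    (hb : Function.Bijective (q.stalkMap z).hom)
    (h : ∀ w, (Groth.L00.Stk.F W z).map ((Scheme.Modules.pullback q).map ψ) w = 0)
    (e : (Groth.L00.Stk.F X (q z)).obj E) : (Groth.L00.Stk.F X (q z)).map ψ e = 0 := by
  let φ := Groth.L00.PullStalk.φ q z
  letI := φ.toAlgebra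
  have h' : (Groth.L00.Stk.F W z).map ((Scheme.Modules.pullback q).map ψ) = 0 := by
    ext w; exact h w
  have h0 : (ModuleCat.extendScalars φ).map ((Groth.L00.Stk.F X (q z)).map ψ) = 0 := by
    refine (cancel_epi ((Groth.L00.PullStalk.stalkIso q z).hom.app E)).1 ?_
    refine ((Groth.L00.PullStalk.stalkIso q z).hom.naturality ψ).symm.trans ?_
    simp only [Functor.comp_map, h', zero_comp, comp_zero]
  have h1 := congrArg (fun g => g ((1 : W.presheaf.stalk z) ⊗ₜ[X.presheaf.stalk (q z)] e)) h0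
  have := mem_ker_smul_of_one_tmul (B := W.presheaf.stalk z) hb.2 h1
  rwa [show RingHom.ker (algebraMap (X.presheaf.stalk (q z)) (W.presheaf.stalk z)) = ⊥ from
    (RingHom.injective_iff_ker_eq_bot _).1 hb.1, Submodule.bot_smul, Submodule.mem_bot] at this

theorem stalk_mem_of_iso {Z : Scheme.{u}} {M N M' N' : Z.Modules} (a : M' ⟶ M) (ψ : M ⟶ N) (b : N ⟶ N') (z : Z)
    (h : ∀ w, (Groth.L00.Stk.F Z z).map ψ w ∈ IsLocalRing.maximalIdeal (Z.presheaf.stalk z) •
      (⊤ : Submodule (Z.presheaf.stalk z) ((Groth.L00.Stk.F Z z).obj N))) (w : (Groth.L00.Stk.F Z z).obj M') :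
    (Groth.L00.Stk.F Z z).map (a ≫ ψ ≫ b) w ∈ IsLocalRing.maximalIdeal (Z.presheaf.stalk z) •
      (⊤ : Submodule (Z.presheaf.stalk z) ((Groth.L00.Stk.F Z z).obj N')) := by
  have := Submodule.mem_map_of_mem (f := ((Groth.L00.Stk.F Z z).map b).hom) (h ((Groth.L00.Stk.F Z z).map a w))
  rw [Submodule.map_smul''] at this
  rw [Functor.map_comp, Functor.map_comp]
  exact Submodule.smul_mono le_rfl le_top this

theorem ker_csc {A : Type u} [CommRing A] [X.Over (Spec (CommRingCat.of A))] (i : F' ⟶ X)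
    (s : Spec (CommRingCat.of A)) (z : F') (hs : (X ↘ Spec (CommRingCat.of A)) (i z) = s)
    (h : RingHom.ker (i.stalkMap z).hom = Ideal.map ((X ↘ Spec (CommRingCat.of A)).stalkMap (i z)).hom
      (IsLocalRing.maximalIdeal ((Spec (CommRingCat.of A)).presheaf.stalk ((X ↘ Spec (CommRingCat.of A)) (i z))))) :
    RingHom.ker (i.stalkMap z).hom = s.asIdeal.map (csc (i z)) := by
  subst hs
  rw [h, map_csc_eq, map_ψs_eq]

/-- The local step, on an affine base. -/
theorem stalk_eq_zero_of_fibre {A : Type u} [CommRing A] [IsNoetherianRing A] [X.Over (Spec (CommRingCat.of A))]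
    [IsLocallyNoetherian X] (s : Spec (CommRingCat.of A)) (hmax : s.asIdeal.IsMaximal) {E F : X.Modules}
    (hF : Coh.IsCoh F) (hflat : FlatMod.IsFlatOver (X ↘ Spec (CommRingCat.of A)) F)
    (i : F' ⟶ X) (p : F' ⟶ Spec ((Spec (CommRingCat.of A)).residueField s))
    (H : IsPullback i p (X ↘ Spec (CommRingCat.of A)) ((Spec (CommRingCat.of A)).fromSpecResidueField s))
    (σ : Spec (CommRingCat.of A) ⟶ X) (hσ : σ ≫ (X ↘ Spec (CommRingCat.of A)) = 𝟙 _)
    (hfree : Fl F (σ s)) (φ : E ⟶ F) (hφ : (Scheme.Modules.pullback σ).map φ = 0)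
    (z0 : F') (hz0 : i z0 = σ s)
    (hfib : ∀ ψ : (Scheme.Modules.pullback i).obj E ⟶ (Scheme.Modules.pullback i).obj F,
      (∀ w, (Groth.L00.Stk.F F' z0).map ψ w ∈ IsLocalRing.maximalIdeal (F'.presheaf.stalk z0) •
        (⊤ : Submodule (F'.presheaf.stalk z0) ((Groth.L00.Stk.F F' z0).obj ((Scheme.Modules.pullback i).obj F)))) → ψ = 0)
    (x : X) (hx : (X ↘ Spec (CommRingCat.of A)) x = s) (e : (Groth.L00.Stk.F X x).obj E) :
    (Groth.L00.Stk.F X x).map φ e = 0 := by
  have hk := ker_stalk_fibre (X ↘ Spec (CommRingCat.of A)) i s p H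
  refine stalk_eq_zero s hmax hF hflat i (fun z => (hk z).1) (fun z => ker_csc i s z (hk z).2.1 (hk z).2.2)
    (fun y hy => ?_) σ hσ hfree φ hφ z0 hz0 hfib x hx e
  obtain ⟨z, h1, -⟩ := Scheme.exists_preimage_of_isPullback H y (IsLocalRing.closedPoint _)
    (hy.trans (Scheme.fromSpecResidueField_apply _ _).symm)
  exact ⟨z, h1⟩

theorem fibre_hom_transfer {Z X' : Scheme.{u}} (i : Z ⟶ X') (j : X' ⟶ X) (g : Z ⟶ X) (hij : i ≫ j = g)
    {E F : X.Modules} (z : Z)
    (h : ∀ ψ : (Scheme.Modules.pullback g).obj E ⟶ (Scheme.Modules.pullback g).obj F,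
      (∀ w, (Groth.L00.Stk.F Z z).map ψ w ∈ IsLocalRing.maximalIdeal (Z.presheaf.stalk z) •
        (⊤ : Submodule (Z.presheaf.stalk z) ((Groth.L00.Stk.F Z z).obj ((Scheme.Modules.pullback g).obj F)))) → ψ = 0)
    (ψ : (Scheme.Modules.pullback i).obj ((Scheme.Modules.pullback j).obj E) ⟶
      (Scheme.Modules.pullback i).obj ((Scheme.Modules.pullback j).obj F))
    (hψ : ∀ w, (Groth.L00.Stk.F Z z).map ψ w ∈ IsLocalRing.maximalIdeal (Z.presheaf.stalk z) •
      (⊤ : Submodule (Z.presheaf.stalk z) ((Groth.L00.Stk.F Z z).obj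
        ((Scheme.Modules.pullback i).obj ((Scheme.Modules.pullback j).obj F))))) : ψ = 0 := by
  subst hij
  have h' := h (((Scheme.Modules.pullbackComp i j).app E).inv ≫ ψ ≫ ((Scheme.Modules.pullbackComp i j).app F).hom)
    fun w => stalk_mem_of_iso _ ψ _ _ hψ w
  refine (cancel_mono ((Scheme.Modules.pullbackComp i j).app F).hom).1
    ((cancel_epi ((Scheme.Modules.pullbackComp i j).app E).inv).1 (h'.trans ?_))
  rw [zero_comp, comp_zero]

theorem pullback_section_eq_zero {Y W X' : Scheme.{u}} (σ : Y ⟶ X') (j : X' ⟶ X) (q : Y ⟶ W) (ξ : W ⟶ X)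
    (e : σ ≫ j = q ≫ ξ) {E F : X.Modules} (φ : E ⟶ F) (hφ : (Scheme.Modules.pullback ξ).map φ = 0) :
    (Scheme.Modules.pullback σ).map ((Scheme.Modules.pullback j).map φ) = 0 := by
  rw [← cancel_mono ((Scheme.Modules.pullbackComp σ j).hom.app F), zero_comp]
  refine ((Scheme.Modules.pullbackComp σ j).hom.naturality φ).trans ?_
  have h2 : (Scheme.Modules.pullback (σ ≫ j)).map φ = 0 := by
    rw [e, ← cancel_epi ((Scheme.Modules.pullbackComp q ξ).hom.app E), comp_zero,
      ← (Scheme.Modules.pullbackComp q ξ).hom.naturality φ, Functor.comp_map, hφ, Functor.map_zero, zero_comp]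
  rw [h2, comp_zero]

variable {K : Type u} [Field K] [IsAlgClosed K] (sS : S ⟶ Spec (CommRingCat.of K)) [LocallyOfFiniteType sS]
  [QuasiCompact sS] (f : X ⟶ S) [IsProper f] (ξ : S ⟶ X) (hξ : ξ ≫ f = 𝟙 S)

include hξ in
theorem family_hom_eq_zero {E F : X.Modules} (hE : Coh.IsCoh E) (hF : Coh.IsCoh F)
    (hFfl : FlatMod.IsFlatOver f F) (φ : E ⟶ F) (hφ : (Scheme.Modules.pullback ξ).map φ = 0)
    (hfree : ∀ (t : Spec (CommRingCat.of K) ⟶ S), t ≫ sS = 𝟙 _ → ∀ p, Fl F ((t ≫ ξ) p))
    (hfib : ∀ (t : Spec (CommRingCat.of K) ⟶ S), t ≫ sS = 𝟙 _ → ∀ (p : Spec (CommRingCat.of K))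
      (ψ : (Scheme.Modules.pullback (pullback.fst f t)).obj E ⟶ (Scheme.Modules.pullback (pullback.fst f t)).obj F),
      (∀ w, (Groth.L00.Stk.F (pullback f t) (PicF.secT f ξ hξ (Over.mk t) p)).map ψ w ∈
        IsLocalRing.maximalIdeal ((pullback f t).presheaf.stalk (PicF.secT f ξ hξ (Over.mk t) p)) •
        (⊤ : Submodule ((pullback f t).presheaf.stalk (PicF.secT f ξ hξ (Over.mk t) p))
          ((Groth.L00.Stk.F (pullback f t) (PicF.secT f ξ hξ (Over.mk t) p)).obj
            ((Scheme.Modules.pullback (pullback.fst f t)).obj F)))) → ψ = 0) :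
    φ = 0 := by
  haveI : IsLocallyNoetherian S := LocallyOfFiniteType.isLocallyNoetherian sS
  haveI : IsLocallyNoetherian X := LocallyOfFiniteType.isLocallyNoetherian f
  haveI : CompactSpace S := QuasiCompact.compactSpace_of_compactSpace sS
  haveI : CompactSpace X := QuasiCompact.compactSpace_of_compactSpace f
  haveI : Coh.IsQCoh F := hF.1
  have hI : Coh.IsCoh (Abelian.image φ) := Groth.L16.CohSupport.isCoh_image hE φ
  have hclosed : ∀ x : X, IsClosed ({x} : Set X) → ∀ e, (Groth.L00.Stk.F X x).map φ e = 0 := by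
    intro x hx
    have hs : IsClosed ({f x} : Set S) := by
      rw [← Set.image_singleton]
      exact f.isClosedMap _ hx
    obtain ⟨_, ⟨W, hW, rfl⟩, hsW, -⟩ :=
      S.isBasis_affineOpens.exists_subset_of_mem_open (Set.mem_univ (f x)) isOpen_univ
    let A := Γ(S, W)
    haveI : IsNoetherianRing A := IsLocallyNoetherian.component_noetherian ⟨W, hW⟩
    let q : Spec (CommRingCat.of A) ⟶ S := hW.fromSpec
    haveI : IsOpenImmersion q := inferInstanceAs (IsOpenImmersion hW.fromSpec)
    obtain ⟨s', hs'⟩ : f x ∈ Set.range q := by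
      have : Set.range hW.fromSpec = (W : Set S) := hW.range_fromSpec
      exact this.symm ▸ hsW
    have hs'c : IsClosed ({s'} : Set (Spec (CommRingCat.of A))) := by
      have := hs.preimage q.continuous
      rwa [← hs', ← Set.image_singleton, Set.preimage_image_eq _ q.isOpenEmbedding.injective] at this
    have hmax : s'.asIdeal.IsMaximal := (PrimeSpectrum.isClosed_singleton_iff_isMaximal s').1 hs'c
    haveI : LocallyOfFiniteType (q ≫ sS) := inferInstance
    let t' := pointOfClosedPoint (q ≫ sS) s' hs'c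
    let t := t' ≫ q
    have ht : t ≫ sS = 𝟙 _ := by rw [Category.assoc, pointOfClosedPoint_comp]
    let X' := pullback f q
    let j : X' ⟶ X := pullback.fst f q
    letI : X'.Over (Spec (CommRingCat.of A)) := ⟨pullback.snd f q⟩
    haveI : IsLocallyNoetherian X' := LocallyOfFiniteType.isLocallyNoetherian j
    let σ : Spec (CommRingCat.of A) ⟶ X' :=
      pullback.lift (q ≫ ξ) (𝟙 _) (by rw [Category.assoc, hξ, Category.comp_id, Category.id_comp])
    let i : pullback f t ⟶ X' :=
      pullback.lift (pullback.fst f t) (pullback.snd f t ≫ t') (by rw [pullback.condition, Category.assoc])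
    have hij : i ≫ j = pullback.fst f t := pullback.lift_fst _ _ _
    have hsq : IsPullback i (pullback.snd f t) (pullback.snd f q) t' := by
      refine IsPullback.of_right ?_ (pullback.lift_snd _ _ _) (IsPullback.of_hasPullback f q)
      rw [pullback.lift_fst]
      exact IsPullback.of_hasPullback f t
    have hH : IsPullback i (pullback.snd f t ≫ Spec.map (residueFieldIsoBase (q ≫ sS) s' hs'c).hom)
        (pullback.snd f q) ((Spec (CommRingCat.of A)).fromSpecResidueField s') :=
      IsPullback.of_iso hsq (Iso.refl _) (Iso.refl _) (asIso (Spec.map (residueFieldIsoBase (q ≫ sS) s' hs'c).hom))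
        (Iso.refl _) (by simp) (by simp) (by simp) (by simp [t', pointOfClosedPoint])
    have hx' : ∃ x' : X', j x' = x := by
      obtain ⟨x', h1, -⟩ := Scheme.Pullback.exists_preimage_pullback (f := f) (g := q) x s' hs'.symm
      exact ⟨x', h1⟩
    obtain ⟨x', rfl⟩ := hx'
    have hx's : pullback.snd f q x' = s' := by
      apply q.isOpenEmbedding.injective
      rw [hs', ← Scheme.Hom.comp_apply, ← Scheme.Hom.comp_apply, pullback.condition]
    let p : Spec (CommRingCat.of K) := IsLocalRing.closedPoint K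
    have ht' : t' p = s' := pointOfClosedPoint_apply _ _ _ _
    have hσξ : j (σ s') = (t ≫ ξ) p := by
      rw [← Scheme.Hom.comp_apply, pullback.lift_fst]
      simp [t, ht']
    have hz0 : i (PicF.secT f ξ hξ (Over.mk t) p) = σ s' := by
      apply j.isOpenEmbedding.injective
      rw [hσξ, ← Scheme.Hom.comp_apply i j, hij]
      exact secT_fst f ξ hξ (Over.mk t) p
    intro e
    refine stalk_pullback_eq_zero j φ x' (ConcreteCategory.bijective_of_isIso (j.stalkMap x')) (fun w => ?_) e
    exact stalk_eq_zero_of_fibre (A := A) (X := X') s' hmax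
      (Groth.L16.AffineBC.isCoh_pullback j hF)
      (Groth.L17.FlatPair.isFlatOver_pullback (IsPullback.of_hasPullback f q) hFfl)
      i _ hH σ (pullback.lift_snd _ _ _) (fl_pullback j (σ s') (hσξ ▸ hfree t ht p))
      ((Scheme.Modules.pullback j).map φ)
      (pullback_section_eq_zero σ j q ξ (pullback.lift_fst _ _ _) φ hφ)
      (PicF.secT f ξ hξ (Over.mk t) p) hz0
      (fun ψ hψ => fibre_hom_transfer i j _ hij _ (hfib t ht p) ψ hψ)
      x' hx's w
  refine Groth.L21.Mod.hom_ext_stalk fun x => ?_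
  have hzero : IsZero (Abelian.image φ) := by
    rw [Groth.L21.Mod.isZero_iff_support_eq_empty]
    by_contra hne
    obtain ⟨y, hy, hyc⟩ := (Groth.L16.CohSupport.isClosed_support _ hI.2).exists_closed_singleton
      (Set.nonempty_iff_ne_empty.2 hne)
    refine hy (subsingleton_of_forall_eq (0 : (Groth.L00.Stk.F X y).obj (Abelian.image φ)) fun v => ?_)
    obtain ⟨e, rfl⟩ := (ModuleCat.epi_iff_surjective ((Groth.L00.Stk.F X y).map (Abelian.factorThruImage φ))).1
      inferInstance v
    apply (ModuleCat.mono_iff_injective ((Groth.L00.Stk.F X y).map (Abelian.image.ι φ))).1 inferInstance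
    rw [map_zero, ← ConcreteCategory.comp_apply, ← Functor.map_comp, Abelian.image.fac]
    exact hclosed y hyc e
  have : φ = 0 := by rw [← Abelian.image.fac φ, hzero.eq_of_tgt (Abelian.factorThruImage φ) 0, zero_comp]
  rw [this]

end Groth.L17.Simpson
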