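import Groth.Agent.L17.Simpson.ScalQuot

/-!
# Pullback of maps to the fibre, on stalks
-/

set_option autoImplicit false
set_option linter.style.haveILetI false
set_option backward.isDefEq.respectTransparency false
set_option backward.isDefEq.respectTransparency.types false

universe u

open CategoryTheory CategoryTheory.Limits AlgebraicGeometry
open scoped TensorProduct

noncomputable section

namespace Groth.L17.Simpson

variable {X Z : Scheme.{u}} (i : Z ⟶ X)

/-- A right exact functor sends the cokernel projection of a map it kills to an isomorphism. -/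
theorem isIso_map_cokernel_π {C D : Type*} [Category C] [Category D] [HasZeroMorphisms C] [HasZeroMorphisms D]
    (G : C ⥤ D) [G.PreservesZeroMorphisms] {P Q : C} (g : P ⟶ Q) [HasCokernel g]
    [PreservesColimit (parallelPair g 0) G] (h : G.map g = 0) : IsIso (G.map (cokernel.π g)) := by
  have hc : IsColimit (CokernelCofork.ofπ (G.map (cokernel.π g))
      (by rw [← G.map_comp, cokernel.condition, G.map_zero] : G.map g ≫ G.map (cokernel.π g) = 0)) :=
    isColimitOfHasCokernelOfPreservesColimit G g
  obtain ⟨r, hr⟩ := CokernelCofork.IsColimit.desc' hc (𝟙 _) (by rw [h, zero_comp])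
  change G.map (cokernel.π g) ≫ r = 𝟙 _ at hr
  refine ⟨r, hr, Cofork.IsColimit.hom_ext hc ?_⟩
  change G.map (cokernel.π g) ≫ r ≫ G.map (cokernel.π g) = G.map (cokernel.π g) ≫ 𝟙 _
  rw [← Category.assoc, hr, Category.id_comp, Category.comp_id]

/-- The stalk of a pulled back map. -/
theorem stalk_pullback_map {E G : X.Modules} (ψ : E ⟶ G) (z : Z) :
    (Groth.L00.Stk.F Z z).map ((Scheme.Modules.pullback i).map ψ) =
      (Groth.L00.PullStalk.stalkIso i z).hom.app E ≫
        (ModuleCat.extendScalars (Groth.L00.PullStalk.φ i z)).map ((Groth.L00.Stk.F X (i z)).map ψ) ≫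
        (Groth.L00.PullStalk.stalkIso i z).inv.app G := by
  rw [← Category.assoc, ← Functor.comp_map (Groth.L00.Stk.F X (i z)) (ModuleCat.extendScalars _),
    ← (Groth.L00.PullStalk.stalkIso i z).hom.naturality ψ, Category.assoc]
  erw [Iso.hom_inv_id_app]
  rw [Category.comp_id]
  rfl

theorem extend_mem {A B : Type u} [CommRing A] [CommRing B] [IsLocalRing A] [IsLocalRing B] (φ : A →+* B)
    [IsLocalHom φ] {M N : ModuleCat.{u} A} (g : M ⟶ N)
    (h : ∀ e, g e ∈ IsLocalRing.maximalIdeal A • (⊤ : Submodule A N)) (t : (ModuleCat.extendScalars φ).obj M) :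
    (ModuleCat.extendScalars φ).map g t ∈ IsLocalRing.maximalIdeal B •
      (⊤ : Submodule B ((ModuleCat.extendScalars φ).obj N)) := by
  letI := φ.toAlgebra
  change LinearMap.baseChange B g.hom t ∈ IsLocalRing.maximalIdeal B • (⊤ : Submodule B (B ⊗[A] N))
  change B ⊗[A] M at t
  induction t using TensorProduct.induction_on with
  | zero => rw [map_zero]; exact Submodule.zero_mem _
  | add x y hx hy => rw [map_add]; exact Submodule.add_mem _ hx hy
  | tmul b e =>
    rw [LinearMap.baseChange_tmul]
    refine Submodule.smul_induction_on (h e) (fun r hr n _ => ?_) (fun u v hu hv => ?_)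
    · rw [TensorProduct.tmul_smul, ← algebraMap_smul B r (b ⊗ₜ[A] n)]
      exact Submodule.smul_mem_smul (map_nonunit φ r hr) trivial
    · rw [TensorProduct.tmul_add]
      exact Submodule.add_mem _ hu hv

theorem extend_eq_zero {A B : Type u} [CommRing A] [CommRing B] (φ : A →+* B) {M : ModuleCat.{u} A}
    (g : M ⟶ M) (c : A) (hg : ∀ n, g n = c • n) (hc : φ c = 0) : (ModuleCat.extendScalars φ).map g = 0 := by
  letI := φ.toAlgebra
  refine ModuleCat.hom_ext (LinearMap.ext fun t => ?_)
  change LinearMap.baseChange B g.hom t = 0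
  change B ⊗[A] M at t
  induction t using TensorProduct.induction_on with
  | zero => rw [map_zero]
  | add x y hx hy => rw [map_add, hx, hy, add_zero]
  | tmul b e =>
    rw [LinearMap.baseChange_tmul]
    change b ⊗ₜ[A] (g e) = 0
    rw [hg, TensorProduct.tmul_smul, ← algebraMap_smul B c (b ⊗ₜ[A] e), RingHom.algebraMap_toAlgebra, hc, zero_smul]

/-- Maps into `𝔪 • G` stay so after pullback. -/
theorem pullback_stalk_mem {E G : X.Modules} (ψ : E ⟶ G) (z : Z)
    (h : ∀ e, (Groth.L00.Stk.F X (i z)).map ψ e ∈ IsLocalRing.maximalIdeal (X.presheaf.stalk (i z)) •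
      (⊤ : Submodule (X.presheaf.stalk (i z)) ((Groth.L00.Stk.F X (i z)).obj G))) (w : (Groth.L00.Stk.F Z z).obj ((Scheme.Modules.pullback i).obj E)) :
    (Groth.L00.Stk.F Z z).map ((Scheme.Modules.pullback i).map ψ) w ∈
      IsLocalRing.maximalIdeal (Z.presheaf.stalk z) •
        (⊤ : Submodule (Z.presheaf.stalk z) ((Groth.L00.Stk.F Z z).obj ((Scheme.Modules.pullback i).obj G))) := by
  rw [stalk_pullback_map]
  simp only [ConcreteCategory.comp_apply]
  haveI : IsLocalHom (Groth.L00.PullStalk.φ i z) := inferInstanceAs (IsLocalHom (i.stalkMap z).hom)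
  have := Submodule.mem_map_of_mem (f := ((Groth.L00.PullStalk.stalkIso i z).inv.app G).hom)
    (extend_mem (Groth.L00.PullStalk.φ i z) _ h ((Groth.L00.PullStalk.stalkIso i z).hom.app E w))
  rw [Submodule.map_smul''] at this
  exact Submodule.smul_mono le_rfl le_top this

theorem mem_ker_smul_of_one_tmul {A B M : Type u} [CommRing A] [CommRing B] [Algebra A B] [AddCommGroup M]
    [Module A M] (hs : Function.Surjective (algebraMap A B)) {m : M} (h : (1 : B) ⊗ₜ[A] m = 0) :
    m ∈ RingHom.ker (algebraMap A B) • (⊤ : Submodule A M) := by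
  let e : (A ⧸ RingHom.ker (Algebra.ofId A B)) ≃ₐ[A] B := Ideal.quotientKerAlgEquivOfSurjective hs
  have h' := congrArg (LinearEquiv.rTensor M e.toLinearEquiv).symm h
  rw [map_zero] at h'
  have he : (LinearEquiv.rTensor M e.toLinearEquiv).symm ((1 : B) ⊗ₜ[A] m) =
      (Ideal.Quotient.mk (RingHom.ker (Algebra.ofId A B)) (1 : A)) ⊗ₜ[A] m := by
    rw [LinearEquiv.symm_apply_eq, LinearEquiv.rTensor_tmul]
    simp
  rw [he] at h'
  have h2 := congrArg (TensorProduct.quotTensorEquivQuotSMul M (RingHom.ker (Algebra.ofId A B))) h'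
  rw [map_zero, TensorProduct.quotTensorEquivQuotSMul_mk_tmul, one_smul] at h2
  exact (Submodule.Quotient.mk_eq_zero _).1 h2

/-- A map killed by pullback lands in the kernel of a surjective stalk map times the module. -/
theorem mem_ker_of_pullback_eq_zero {E G : X.Modules} (ψ : E ⟶ G) (z : Z)
    (hs : Function.Surjective (i.stalkMap z).hom) (h : (Scheme.Modules.pullback i).map ψ = 0)
    (e : (Groth.L00.Stk.F X (i z)).obj E) :
    (Groth.L00.Stk.F X (i z)).map ψ e ∈ RingHom.ker (i.stalkMap z).hom •
      (⊤ : Submodule (X.presheaf.stalk (i z)) ((Groth.L00.Stk.F X (i z)).obj G)) := by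
  let φ := Groth.L00.PullStalk.φ i z
  letI := φ.toAlgebra
  have h0 : (ModuleCat.extendScalars φ).map ((Groth.L00.Stk.F X (i z)).map ψ) = 0 := by
    refine (cancel_epi ((Groth.L00.PullStalk.stalkIso i z).hom.app E)).1 ?_
    refine ((Groth.L00.PullStalk.stalkIso i z).hom.naturality ψ).symm.trans ?_
    simp only [Functor.comp_map, h, Functor.map_zero, zero_comp, comp_zero]
  have h1 := congrArg (fun g => g ((1 : Z.presheaf.stalk z) ⊗ₜ[X.presheaf.stalk (i z)] e)) h0
  exact mem_ker_smul_of_one_tmul (B := Z.presheaf.stalk z) hs h1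

variable {A : Type u} [CommRing A] [X.Over (Spec (CommRingCat.of A))]

theorem pullback_smulFamily_eq_zero (J : Ideal A) (F : X.Modules)
    (hJ : ∀ (z : Z) (a : A), a ∈ J → (i.stalkMap z).hom (csc (i z) a) = 0) :
    (Scheme.Modules.pullback i).map (Formal.smulFamily J F) = 0 := by
  haveI := (Scheme.Modules.pullbackPushforwardAdjunction i).leftAdjoint_preservesColimits
  refine (isColimitOfPreserves (Scheme.Modules.pullback i) (coproductIsCoproduct fun _ : J => F)).hom_ext fun a => ?_
  obtain ⟨a⟩ := a
  refine (((Scheme.Modules.pullback i).map_comp _ _).symm.trans ?_).trans comp_zero.symm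
  rw [show (Cofan.mk _ (Sigma.ι fun _ : J => F)).ι.app ⟨a⟩ ≫ Formal.smulFamily J F = Formal.smulMod A F (a : A)
    from Sigma.ι_desc _ _]
  refine Groth.L21.Mod.hom_ext_stalk fun z => ?_
  have h1 : (Groth.L00.Stk.F Z z).map ((Scheme.Modules.pullback i).map (Formal.smulMod A F (a : A))) = 0 := by
    rw [stalk_pullback_map]
    rw [extend_eq_zero _ _ (csc (i z) (a : A)) (fun n => stalk_smul F (a : A) (i z) n) (hJ z a a.2),
      zero_comp, comp_zero]
  ext w
  change (Groth.L00.Stk.F Z z).map _ w = (Groth.L00.Stk.F Z z).map (0 : _ ⟶ _) w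
  rw [Functor.map_zero]
  exact congrArg (fun g => g w) h1

theorem isIso_pullback_qJ (J : Ideal A) (F : X.Modules)
    (hJ : ∀ (z : Z) (a : A), a ∈ J → (i.stalkMap z).hom (csc (i z) a) = 0) :
    IsIso ((Scheme.Modules.pullback i).map (qJ J F)) := by
  haveI := (Scheme.Modules.pullbackPushforwardAdjunction i).leftAdjoint_preservesColimits
  haveI := preservesColimitsOfSize_shrink.{0, u, 0, u} (Scheme.Modules.pullback i)
  exact isIso_map_cokernel_π _ _ (pullback_smulFamily_eq_zero i J F hJ)

end Groth.L17.Simpson
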