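import Groth.Agent.L20.FibreFree
import Groth.Agent.L29.DCoh.Flat
import Groth.Agent.L01.FlatCx.Seq
import Groth.Agent.L15.Ref.FreeLocus

/-!
# Coherent modules free near a point, through flatness of the stalk
-/

set_option autoImplicit false
set_option linter.style.haveILetI false
set_option backward.isDefEq.respectTransparency false
set_option backward.isDefEq.respectTransparency.types false

universe u

open CategoryTheory CategoryTheory.Limits AlgebraicGeometry

noncomputable section

namespace Groth.L17.Simpson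

variable {X : Scheme.{u}}

/-- The stalk at `x` is flat. -/
def Fl (M : X.Modules) (x : X) : Prop :=
  Module.Flat (X.presheaf.stalk x) ((Groth.L00.Stk.F X x).obj M)

theorem fl_iso {M N : X.Modules} (e : M ≅ N) {x : X} (h : Fl M x) : Fl N x :=
  haveI : Module.Flat (X.presheaf.stalk x) ((Groth.L00.Stk.F X x).obj M) := h
  Module.Flat.of_linearEquiv ((Groth.L00.Stk.F X x).mapIso e).symm.toLinearEquiv

theorem fl_retract {M N : X.Modules} (i : N ⟶ M) (r : M ⟶ N) (hir : i ≫ r = 𝟙 N) {x : X} (h : Fl M x) :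
    Fl N x :=
  haveI : Module.Flat (X.presheaf.stalk x) ((Groth.L00.Stk.F X x).obj M) := h
  Module.Flat.of_retract ((Groth.L00.Stk.F X x).map i).hom ((Groth.L00.Stk.F X x).map r).hom (by
    rw [← ModuleCat.hom_comp, ← Functor.map_comp, hir, CategoryTheory.Functor.map_id]; rfl)

theorem fl_zero {M : X.Modules} (h : IsZero M) (x : X) : Fl M x :=
  Groth.L00.KFlat.isFlat_zero h x

theorem fl_sigma_factor {n : ℕ} (M : Fin n → X.Modules) (i : Fin n) {x : X} (h : Fl (∐ M) x) :
    Fl (M i) x := by
  classical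
  exact fl_retract (Sigma.ι M i) (Sigma.desc fun j => if hj : j = i then eqToHom (congrArg M hj) else 0)
    (by simp) h

theorem fl_sigma {n : ℕ} (M : Fin n → X.Modules) {x : X} (h : ∀ i, Fl (M i) x) : Fl (∐ M) x := by
  classical
  haveI : ∀ i, Module.Flat (X.presheaf.stalk x) ((Groth.L00.Stk.F X x).obj (M i)) := h
  exact Module.Flat.of_linearEquiv
    ((PreservesCoproduct.iso (Groth.L00.Stk.F X x) M) ≪≫ ModuleCat.coprodIsoDirectSum _).toLinearEquiv

theorem fl_ext {A B C : X.Modules} (f : A ⟶ B) (g : B ⟶ C) (w : f ≫ g = 0)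
    (hS : (ShortComplex.mk f g w).ShortExact) {x : X} (hA : Fl A x) (hC : Fl C x) : Fl B x := by
  haveI : Module.Flat (X.presheaf.stalk x) ((Groth.L00.Stk.F X x).obj A) := hA
  haveI : Module.Flat (X.presheaf.stalk x) ((Groth.L00.Stk.F X x).obj C) := hC
  have h' := hS.map_of_exact (Groth.L00.Stk.F X x)
  have h1 : Function.Injective ((Groth.L00.Stk.F X x).map f).hom := h'.moduleCat_injective_f
  have h2 : Function.Surjective ((Groth.L00.Stk.F X x).map g).hom := h'.moduleCat_surjective_g
  have h3 : Function.Exact ((Groth.L00.Stk.F X x).map f).hom ((Groth.L00.Stk.F X x).map g).hom :=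
    (ShortComplex.ShortExact.moduleCat_exact_iff_function_exact _).1 h'.exact
  exact Groth.L01.FlatCx.flat_middle h1 h2 h3

/-- Locally free near `x` gives a flat stalk. -/
theorem fl_of_loc {M : X.Modules} (U : X.Opens) (h : FlatMod.IsFinLocFree (M.restrict U.ι)) {x : X}
    (hx : x ∈ U) : Fl M x := by
  let y : (U : Scheme.{u}) := ⟨x, hx⟩
  have h' : Module.Flat _ ((Groth.L00.Stk.F (U : Scheme.{u}) y).obj
      ((Scheme.Modules.pullback U.ι).obj M)) :=
    Groth.L00.KFlat.isFlat_of_iso ((Scheme.Modules.restrictFunctorIsoPullback U.ι).app M)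
      (Groth.L29.DC.isFlat_of_isFinLocFree h) y
  exact Groth.L29.DC.flat_of_extendScalars_bijective (Groth.L00.PullStalk.φ U.ι y)
    (ConcreteCategory.bijective_of_isIso (U.ι.stalkMap y)) _
    (Groth.L00.TorAmp.flat_of_iso ((Groth.L00.PullStalk.stalkIso U.ι y).app M).symm h')

/-- For coherent modules a flat stalk gives locally free near the point. -/
theorem loc_of_fl [IsLocallyNoetherian X] {M : X.Modules} (hM : Coh.IsCoh M) {x : X} (h : Fl M x) :
    ∃ U : X.Opens, x ∈ U ∧ FlatMod.IsFinLocFree (M.restrict U.ι) := by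
  haveI : Coh.IsQCoh M := hM.1
  obtain ⟨U, n, hxU, ⟨e⟩⟩ := Groth.L20.FibreFree.exists_free_nhd M (Groth.L15.Ref.isFP_of_isCoh hM) x h
  exact ⟨U, hxU, fun y => ⟨⊤, n, trivial, ⟨(Scheme.Modules.restrictFunctorIsoPullback _).app _ ≪≫
    (Scheme.Modules.pullback _).mapIso e ≪≫ Groth.L29.LocFree.pullbackFreeIso _ n⟩⟩⟩

end Groth.L17.Simpson
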