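import Groth.Agent.L17.Simpson.JHSub
import Groth.Agent.L16.Existence.Lemmas

/-!
# Locally free associated graded near a set of points
-/

set_option autoImplicit false
set_option linter.style.haveILetI false
set_option linter.unusedSectionVars false
set_option backward.isDefEq.respectTransparency false

universe u

open CategoryTheory CategoryTheory.Limits AlgebraicGeometry Polynomial StabCat

noncomputable section

namespace Groth.L17.Simpson

variable {k : Type u} [Field k] {X : Scheme.{u}} [X.Over (Spec (CommRingCat.of k))]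
  [IsProper (X ↘ Spec (CommRingCat.of k))] {L : X.Modules} {d : ℕ}

theorem fl_factor_of_gr {E : X.Modules} (s : LTSeries (Subobject E)) (Z : Set X)
    (h : ∀ x ∈ Z, ∃ U : X.Opens, x ∈ U ∧ FlatMod.IsFinLocFree ((StabCat.grObj s).restrict U.ι)) :
    ∀ i : Fin s.length, ∀ z ∈ Z, Fl (StabCat.factor s i) z := fun i z hz => by
  obtain ⟨U, hzU, hU⟩ := h z hz
  exact fl_sigma_factor (fun j : Fin s.length => StabCat.factor s j) i (fl_of_loc U hU hzU)

theorem gr_of_fl_factor {E : X.Modules} (s : LTSeries (Subobject E)) (Z : Set X)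
    (hs : _root_.ShStab.IsJHFiltration k X L E d s)
    (h : ∀ i : Fin s.length, ∀ z ∈ Z, Fl (StabCat.factor s i) z) :
    ∀ x ∈ Z, ∃ U : X.Opens, x ∈ U ∧ FlatMod.IsFinLocFree ((StabCat.grObj s).restrict U.ι) := fun x hx => by
  haveI := Groth.L03.ShStab.Basic.locallyNoetherian (k := k) (X := X)
  exact loc_of_fl (Groth.L16.Existence.isCoh_sigma _ fun i => (hs.2.2 i).1.1)
    (fl_sigma _ fun i => h i x hx)

theorem gr_locFree_sub_quot (hL : CohB1.IsAmple L) {E : X.Modules}
    (hE : _root_.ShStab.IsSemistable k X L E d) (Z : Set X) (s : LTSeries (Subobject E))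
    (hs : _root_.ShStab.IsJHFiltration k X L E d s)
    (hgr : ∀ x ∈ Z, ∃ U : X.Opens, x ∈ U ∧ FlatMod.IsFinLocFree ((StabCat.grObj s).restrict U.ι))
    {G : X.Modules} (ι : G ⟶ E) [Mono ι] (hG : Coh.IsCoh G) {pG pE : ℚ[X]}
    (hpG : _root_.ShStab.IsHilbPoly k X L G pG) (hpE : _root_.ShStab.IsHilbPoly k X L E pE)
    (hred : RedEq d pG pE) :
    (∃ sG : LTSeries (Subobject G), _root_.ShStab.IsJHFiltration k X L G d sG ∧
      ∀ x ∈ Z, ∃ U : X.Opens, x ∈ U ∧ FlatMod.IsFinLocFree ((StabCat.grObj sG).restrict U.ι)) ∧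
    (∃ sQ : LTSeries (Subobject (cokernel ι)), _root_.ShStab.IsJHFiltration k X L (cokernel ι) d sQ ∧
      ∀ x ∈ Z, ∃ U : X.Opens, x ∈ U ∧ FlatMod.IsFinLocFree ((StabCat.grObj sQ).restrict U.ι)) := by
  haveI := noetherian (k := k) (X := X)
  obtain ⟨⟨sG, h1, h2⟩, sQ, h3, h4⟩ :=
    exists_jh_sub_quot hL hE Z s hs (fl_factor_of_gr s Z hgr) ι hG hpG hpE hred
  exact ⟨⟨sG, h1, gr_of_fl_factor sG Z h1 h2⟩, sQ, h3, gr_of_fl_factor sQ Z h3 h4⟩

end Groth.L17.Simpson
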