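import Groth.Agent.L00.SubobjLattice

/-!
# Transport of intervals of subobjects along a morphism
-/

set_option autoImplicit false

universe v u

open CategoryTheory CategoryTheory.Limits

namespace Groth.L17.Simpson

open Groth.L28.Elt Groth.L00.SubobjLattice

variable {A : Type u} [Category.{v} A] [Abelian A] {P R : A}

theorem nonempty_qt_iso (g : P ⟶ R) {a b : Subobject P} {a' b' : Subobject R} (h : a ≤ b) (h' : a' ≤ b')
    (hb : ∀ x ∈ elts b, ev g x ∈ elts b') (hsurj : ∀ y ∈ elts b', ∃ x ∈ elts b, ev g x = y)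
    (ha : ∀ x ∈ elts b, (ev g x ∈ elts a' ↔ x ∈ elts a)) : Nonempty (qt a b h ≅ qt a' b' h') := by
  obtain ⟨l, hl⟩ := exists_lift b'.arrow (b.arrow ≫ g) fun z => by
    rw [ev_comp]
    exact hb _ ⟨z, rfl⟩
  obtain ⟨d, hd⟩ := exists_desc (qπ a b h) (l ≫ qπ a' b' h') fun y hy => by
    rw [ev_comp, ev_qπ_eq_zero_iff, ← ev_comp, hl, ev_comp]
    exact (ha _ ⟨y, rfl⟩).2 ((ev_qπ_eq_zero_iff a b h y).1 hy)
  have hd' : ∀ y, ev d (ev (qπ a b h) y) = ev (qπ a' b' h') (ev l y) := fun y => by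
    rw [← ev_comp, ← ev_comp, hd]
  haveI : Mono d := mono_iff.2 ((injective_iff_map_eq_zero _).2 fun z hz => by
    obtain ⟨y, rfl⟩ := surj (qπ a b h) z
    rw [hd', ev_qπ_eq_zero_iff, ← ev_comp, hl, ev_comp] at hz
    exact (ev_qπ_eq_zero_iff a b h y).2 ((ha _ ⟨y, rfl⟩).1 hz))
  haveI : Epi d := epi_iff.2 fun z => by
    obtain ⟨w, rfl⟩ := surj (qπ a' b' h') z
    obtain ⟨x, ⟨y, rfl⟩, hx⟩ := hsurj _ ⟨w, rfl⟩
    refine ⟨ev (qπ a b h) y, ?_⟩
    rw [hd', show ev l y = w from inj b'.arrow (by rw [← ev_comp, hl, ev_comp, hx])]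
  haveI := isIso_of_mono_of_epi d
  exact ⟨asIso d⟩

/-- Below a subobject. -/
theorem nonempty_qt_pullback (ι : P ⟶ R) [Mono ι] {a b : Subobject R} (h : a ≤ b)
    (hb : b ≤ Subobject.mk ι) :
    ∃ h' : (Subobject.pullback ι).obj a ≤ (Subobject.pullback ι).obj b,
      Nonempty (qt ((Subobject.pullback ι).obj a) ((Subobject.pullback ι).obj b) h' ≅ qt a b h) := by
  have h' : (Subobject.pullback ι).obj a ≤ (Subobject.pullback ι).obj b :=
    le_iff'.2 fun x hx => (mem_pullback _ _ _).2 (le_iff.1 h ((mem_pullback _ _ _).1 hx))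
  refine ⟨h', nonempty_qt_iso ι h' h (fun x hx => (mem_pullback _ _ _).1 hx) (fun y hy => ?_)
    fun x _ => (mem_pullback _ _ _).symm⟩
  obtain ⟨x, rfl⟩ := (elts_mk ι y).1 (le_iff.1 hb hy)
  exact ⟨x, (mem_pullback _ _ _).2 hy, rfl⟩

theorem pullback_eq_iff (ι : P ⟶ R) [Mono ι] {a b : Subobject R} (ha : a ≤ Subobject.mk ι)
    (hb : b ≤ Subobject.mk ι) : (Subobject.pullback ι).obj a = (Subobject.pullback ι).obj b ↔ a = b := by
  refine ⟨fun h => eq_iff.2 fun y => ⟨fun hy => ?_, fun hy => ?_⟩, fun h => h ▸ rfl⟩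
  · obtain ⟨x, rfl⟩ := (elts_mk ι y).1 (le_iff.1 ha hy)
    exact (mem_pullback _ _ _).1 (h ▸ (mem_pullback _ _ _).2 hy)
  · obtain ⟨x, rfl⟩ := (elts_mk ι y).1 (le_iff.1 hb hy)
    exact (mem_pullback _ _ _).1 (h.symm ▸ (mem_pullback _ _ _).2 hy)

theorem pullback_bot (ι : P ⟶ R) [Mono ι] : (Subobject.pullback ι).obj ⊥ = ⊥ :=
  eq_iff.2 fun x => by
    rw [mem_pullback, mem_bot, mem_bot]
    exact ⟨eq_zero_of_mono ι, fun h => by rw [h, map_zero]⟩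

theorem pullback_mk_self' (ι : P ⟶ R) [Mono ι] : (Subobject.pullback ι).obj (Subobject.mk ι) = ⊤ :=
  eq_iff.2 fun x => ⟨fun _ => mem_top x, fun _ => (mem_pullback _ _ _).2 ((elts_mk ι _).2 ⟨x, rfl⟩)⟩

/-- Above the kernel of an epimorphism. -/
theorem nonempty_qt_img (π : P ⟶ R) {a b : Subobject P} (h : a ≤ b)
    (hker : ∀ x, ev π x = 0 → x ∈ elts a) :
    ∃ h' : img π a ≤ img π b, Nonempty (qt a b h ≅ qt (img π a) (img π b) h') := by
  have h' : img π a ≤ img π b := le_iff'.2 fun y hy => by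
    obtain ⟨x, hx, rfl⟩ := (mem_img _ _ _).1 hy
    exact (mem_img _ _ _).2 ⟨x, le_iff.1 h hx, rfl⟩
  refine ⟨h', nonempty_qt_iso π h h' (fun x hx => (mem_img _ _ _).2 ⟨x, hx, rfl⟩)
    (fun y hy => (mem_img _ _ _).1 hy) fun x _ => ⟨fun hx => ?_, fun hx => (mem_img _ _ _).2 ⟨x, hx, rfl⟩⟩⟩
  obtain ⟨w, hw, he⟩ := (mem_img _ _ _).1 hx
  have := add_mem hw (hker (x - w) (by rw [map_sub, he, sub_self]))
  rwa [add_sub_cancel] at this

theorem img_eq_iff (π : P ⟶ R) {a b : Subobject P} (hka : ∀ x, ev π x = 0 → x ∈ elts a)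
    (hkb : ∀ x, ev π x = 0 → x ∈ elts b) : img π a = img π b ↔ a = b := by
  refine ⟨fun h => eq_iff.2 fun x => ⟨fun hx => ?_, fun hx => ?_⟩, fun h => h ▸ rfl⟩
  · obtain ⟨w, hw, he⟩ := (mem_img π b _).1 (h ▸ (mem_img π a _).2 ⟨x, hx, rfl⟩)
    have := add_mem hw (hkb (x - w) (by rw [map_sub, he, sub_self]))
    rwa [add_sub_cancel] at this
  · obtain ⟨w, hw, he⟩ := (mem_img π a _).1 (h.symm ▸ (mem_img π b _).2 ⟨x, hx, rfl⟩)
    have := add_mem hw (hka (x - w) (by rw [map_sub, he, sub_self]))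
    rwa [add_sub_cancel] at this

theorem img_top (π : P ⟶ R) [Epi π] : img π (⊤ : Subobject P) = ⊤ :=
  eq_iff.2 fun y => ⟨fun _ => mem_top y, fun _ => by
    obtain ⟨x, rfl⟩ := surj π y
    exact (mem_img _ _ _).2 ⟨x, mem_top x, rfl⟩⟩

theorem img_eq_bot (π : P ⟶ R) {a : Subobject P} (h : ∀ x ∈ elts a, ev π x = 0) : img π a = ⊥ :=
  eq_iff.2 fun y => by
    rw [mem_bot]
    refine ⟨fun hy => ?_, fun hy => hy ▸ zero_mem _⟩
    obtain ⟨x, hx, rfl⟩ := (mem_img _ _ _).1 hy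
    exact h x hx

end Groth.L17.Simpson
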