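import Groth.Agent.L17.Simpson.FreeAt
import Groth.Agent.L17.Simpson.Interval
import Groth.Agent.L17.Stable.SSAbelian
import Groth.Agent.L03.ShStab.Filtrations

/-!
# Jordan–Hölder factors of a submodule and of a quotient with the same reduced polynomial
-/

set_option autoImplicit false
set_option linter.style.haveILetI false
set_option linter.unusedSectionVars false
set_option backward.isDefEq.respectTransparency false

universe u

open CategoryTheory CategoryTheory.Limits AlgebraicGeometry Polynomial StabCat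
open Groth.L03.Euler Groth.L03.ShStab Groth.L03.ShStab.Basic Groth.L03.ShStab.Filt
open Groth.L00.SubobjLattice (qt qπ)

noncomputable section

namespace Groth.L17.Simpson

variable {k : Type u} [Field k] {X : Scheme.{u}} [X.Over (Spec (CommRingCat.of k))]
  [IsProper (X ↘ Spec (CommRingCat.of k))] {L : X.Modules} {d : ℕ}

include k in
theorem noetherian : IsNoetherian X := by
  haveI := Basic.locallyNoetherian (k := k) (X := X)
  haveI : CompactSpace X := QuasiCompact.compactSpace_of_compactSpace (X ↘ Spec (CommRingCat.of k))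
  exact {}

theorem stable_of_iso {E E' : X.Modules} (e : E ≅ E') (h : _root_.ShStab.IsStable k X L E d) :
    _root_.ShStab.IsStable k X L E' d := by
  haveI : IsLocallyNoetherian X := Basic.locallyNoetherian (k := k)
  refine ⟨Groth.L16.CohSupport.isCoh_of_iso e h.1, fun h0 => h.2.1 (h0.of_iso e),
    fun F ι hι hF h0 => ?_, fun F ι hι hF h0 hi pF pE hpF hpE => ?_⟩
  · haveI := hι
    exact h.2.2.1 F (ι ≫ e.inv) (mono_comp _ _) hF h0
  · haveI := hι
    refine h.2.2.2 F (ι ≫ e.inv) (mono_comp _ _) hF h0 (fun hi' => hi ?_) pF pE hpF (isHilbPoly_iso e.symm hpE)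
    have : ι = (ι ≫ e.inv) ≫ e.hom := by simp
    rw [this]
    infer_instance

theorem le_of_covBy_seq {α : Type*} [Preorder α] (f : ℕ → α) {n : ℕ} (h : ∀ i < n, f i ⋖ f (i + 1))
    {i j : ℕ} (hij : i ≤ j) (hj : j ≤ n) : f i ≤ f j := by
  induction hij with
  | refl => exact le_rfl
  | @step m _ ih => exact (ih (by omega)).trans (h m (by omega)).le

variable (hL : CohB1.IsAmple L)

include hL in
/-- The factors of a Jordan–Hölder series of `E` distribute over those of `G` and of `E/G`. -/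
theorem exists_jh_sub_quot [IsNoetherian X] {E : X.Modules} (hE : _root_.ShStab.IsSemistable k X L E d)
    (Z : Set X) (s : LTSeries (Subobject E)) (hs : _root_.ShStab.IsJHFiltration k X L E d s)
    (hgood : ∀ i : Fin s.length, ∀ z ∈ Z, Fl (StabCat.factor s i) z)
    {G : X.Modules} (ι : G ⟶ E) [Mono ι] (hG : Coh.IsCoh G) {pG pE : ℚ[X]}
    (hpG : _root_.ShStab.IsHilbPoly k X L G pG) (hpE : _root_.ShStab.IsHilbPoly k X L E pE)
    (hred : RedEq d pG pE) :
    (∃ sG : LTSeries (Subobject G), _root_.ShStab.IsJHFiltration k X L G d sG ∧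
      ∀ i : Fin sG.length, ∀ z ∈ Z, Fl (StabCat.factor sG i) z) ∧
    (∃ sQ : LTSeries (Subobject (cokernel ι)), _root_.ShStab.IsJHFiltration k X L (cokernel ι) d sQ ∧
      ∀ i : Fin sQ.length, ∀ z ∈ Z, Fl (StabCat.factor sQ i) z) := by
  have hd := dim_le_of_isPure hE.1 hE.2.2.1
  obtain ⟨t, rfl⟩ := exists_lat hE.1 hs.1 (fun i => (hs.2.2 i).1.1)
  have ht := (isJH_iff hL hE.1 hd t).1 hs
  let D := Bridge.stabData (k := k) hL hE.1 hd
  have hss : D.ISS ⊥ ⊤ := iss_bot_top hL hE.1 hd hE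
  have strict : ∀ a b, a < b → D.p a ≠ D.p b := Bridge.p_ne_of_lt hL hE.1 hd
  have htop : D.q ⊥ ⊤ = pE := Bridge.q_bot_top hL hE.1 hd hpE
  obtain ⟨a, ha, haP, -, -⟩ := exists_mem (k := k) hL hE.1 hd G ι hG hpG
  have hαE : 0 < alpha d pE := Schur.alpha_pos_of_isSemistable hL hE hpE
  have hGr : alpha d pG • red d pE = pG := by
    rw [red, smul_smul, mul_comm, ← smul_smul, ← show alpha d pE • pG = alpha d pG • pE from hred,
      smul_smul, inv_mul_cancel₀ hαE.ne', one_smul]
  have hmem : D.Mem a := by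
    change D.q ⊥ a = alpha d (D.q ⊥ a) • red d (D.q ⊥ ⊤)
    rw [htop, haP, hGr]
  haveI : WellFoundedLT (StabData.MemSub hss) :=
    StrictMono.wellFoundedLT (f := fun c => D.ν c.1) fun c c' h =>
      D.ν_lt_of_av_pos (StabData.av_pos_of_mem strict c.2 c'.2 h)
  haveI : WellFoundedGT (StabData.MemSub hss) :=
    StrictMono.wellFoundedGT (f := fun c => c.1) fun _ _ h => h
  obtain ⟨f, hf0, n, hfn, hfc⟩ := exists_covBy_seq_of_wellFoundedLT_wellFoundedGT_of_le
    (x := (⟨⊥, StabData.mem_bot⟩ : StabData.MemSub hss)) (y := ⟨a, hmem⟩)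
    (show (⊥ : Bridge.cohLattice hE.1) ≤ a from bot_le)
  obtain ⟨g, hg0, m, hgm, hgc⟩ := exists_covBy_seq_of_wellFoundedLT_wellFoundedGT_of_le
    (x := (⟨a, hmem⟩ : StabData.MemSub hss)) (y := ⟨⊤, StabData.mem_top hss⟩)
    (show (a : Bridge.cohLattice hE.1) ≤ ⊤ from le_top)
  let c : ℕ → StabData.MemSub hss := fun i => if i < n then f i else g (i - n)
  have hcf : ∀ i ≤ n, c i = f i := fun i hi => by
    rcases hi.lt_or_eq with h | h
    · exact if_pos h
    · subst h
      simp only [c, lt_irrefl, if_false, Nat.sub_self]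
      rw [hg0, hfn]
  have hcg : ∀ j, c (n + j) = g j := fun j => by simp [c]
  have hcc : ∀ i < n + m, c i ⋖ c (i + 1) := fun i hi => by
    by_cases h : i < n
    · rw [hcf i h.le, hcf (i + 1) h]
      exact hfc i h
    · obtain ⟨j, rfl⟩ := Nat.exists_eq_add_of_le (not_lt.1 h)
      rw [hcg, add_assoc, hcg]
      exact hgc j (by omega)
  let u : LTSeries (Bridge.cohLattice hE.1) :=
    ⟨n + m, fun i => (c i.val).1, fun i => (hcc i.val i.2).lt⟩
  have hu : D.IsJH u := ⟨congrArg Subtype.val ((hcf 0 (Nat.zero_le n)).trans hf0),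
    congrArg Subtype.val ((hcg m).trans hgm),
    fun i => StabData.iSt_of_covBy hss strict (hcc i.val i.2)⟩
  let Good : Bridge.cohLattice hE.1 × Bridge.cohLattice hE.1 → Prop := fun x =>
    ∀ h : x.1.1 ≤ x.2.1, ∀ z ∈ Z, Fl (qt x.1.1 x.2.1 h) z
  obtain ⟨e, he⟩ := StabData.IsJH.exists_equiv hss hu ht (Q := fun x y => Good x ↔ Good y)
    (fun _ => Iff.rfl) (fun h => h.symm) (fun h h' => h.trans h') (fun x y => by
      obtain ⟨i⟩ := Groth.L00.SubobjLattice.nonempty_iso (a := x.1) (b := x.1 ⊔ y.1) (c := x.1 ⊓ y.1)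
        (d := y.1) le_sup_left inf_le_right le_sup_right inf_le_left le_rfl le_rfl
      exact ⟨fun h h' z hz => fl_iso i.symm (h le_sup_left z hz),
        fun h h' z hz => fl_iso i (h inf_le_right z hz)⟩)
  have hG' : ∀ i < n + m, Good ((c i).1, (c (i + 1)).1) := fun i hi =>
    (he ⟨i, hi⟩).2 fun _ z hz => hgood (e ⟨i, hi⟩) z hz
  have hak : ∀ x, Groth.L28.Elt.ev (cokernel.π ι) x = 0 ↔ x ∈ Groth.L28.Elt.elts (Subobject.mk ι) :=
    fun x => (Groth.L28.Elt.cokernel_π_eq_zero_iff ι x).trans (Groth.L28.Elt.elts_mk ι x).symm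
  constructor
  · have hfa : ∀ i ≤ n, (f i).1.1 ≤ Subobject.mk ι := fun i hi => by
      have h : (f i).1.1 ≤ (f n).1.1 := le_of_covBy_seq f hfc hi le_rfl
      rwa [hfn, show ((⟨a, hmem⟩ : StabData.MemSub hss)).1.1 = Subobject.mk ι from ha] at h
    let φ : ℕ → Subobject G := fun i => (Subobject.pullback ι).obj (f i).1.1
    have hstep : ∀ (i : ℕ) (hi : i < n), ∃ h : φ i ≤ φ (i + 1),
        φ i < φ (i + 1) ∧ Nonempty (qt (φ i) (φ (i + 1)) h ≅
          qt (f i).1.1 (f (i + 1)).1.1 (hfc i hi).le) := fun i hi => by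
      obtain ⟨h, hiso⟩ := nonempty_qt_pullback ι (a := (f i).1.1) (b := (f (i + 1)).1.1)
        (hfc i hi).le (hfa (i + 1) hi)
      exact ⟨h, lt_of_le_of_ne h fun hh => (hfc i hi).lt.ne (Subtype.ext (Subtype.ext
        ((pullback_eq_iff ι (hfa i hi.le) (hfa (i + 1) hi)).1 hh))), hiso⟩
    let sG : LTSeries (Subobject G) := ⟨n, fun i => φ i.val, fun i => (hstep i.val i.2).choose_spec.1⟩
    refine ⟨sG, ⟨?_, ?_, fun i => ⟨?_, fun p q hp hq => ?_⟩⟩, fun i z hz => ?_⟩
    · change φ 0 = ⊥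
      simp only [φ]
      rw [hf0]
      exact pullback_bot ι
    · change φ n = ⊤
      simp only [φ]
      rw [hfn]
      exact (congrArg (fun b => (Subobject.pullback ι).obj b) ha).trans (pullback_mk_self' ι)
    · obtain ⟨h, -, ⟨j⟩⟩ := hstep i.val i.2
      exact stable_of_iso j.symm ((Bridge.isStable_qt_iff hL hE.1 hd (hfc i.val i.2).le).2
        (StabData.iSt_of_covBy hss strict (hfc i.val i.2)).1)
    · obtain ⟨h, -, ⟨j⟩⟩ := hstep i.val i.2
      rw [isHilbPoly_unique hp (isHilbPoly_iso j.symm (Bridge.hilb_q hL hE.1 hd (hfc i.val i.2).le)),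
        isHilbPoly_unique hq hpG]
      have := StabData.q_of_mem (f i.val).2 (f (i.val + 1)).2
      refine Stable.redEq_of_smul ?_ hGr
      rw [← htop]
      exact this.symm
    · obtain ⟨h, -, ⟨j⟩⟩ := hstep i.val i.2
      have := hG' i.val (Nat.lt_of_lt_of_le i.2 (Nat.le_add_right n m))
      rw [hcf _ i.2.le, hcf (i.val + 1) i.2] at this
      exact fl_iso j.symm (this (hfc i.val i.2).le z hz)
  · have hga : ∀ j ≤ m, Subobject.mk ι ≤ (g j).1.1 := fun j hj => by
      have h : (g 0).1.1 ≤ (g j).1.1 := le_of_covBy_seq g hgc (Nat.zero_le j) hj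
      rwa [hg0, show ((⟨a, hmem⟩ : StabData.MemSub hss)).1.1 = Subobject.mk ι from ha] at h
    have hk : ∀ j ≤ m, ∀ x, Groth.L28.Elt.ev (cokernel.π ι) x = 0 → x ∈ Groth.L28.Elt.elts (g j).1.1 :=
      fun j hj x hx => Groth.L28.Elt.le_iff.1 (hga j hj) ((hak x).1 hx)
    let ψ : ℕ → Subobject (cokernel ι) := fun j => Groth.L28.Elt.img (cokernel.π ι) (g j).1.1
    have hstep : ∀ (j : ℕ) (hj : j < m), ∃ h : ψ j ≤ ψ (j + 1),
        ψ j < ψ (j + 1) ∧ Nonempty (qt (g j).1.1 (g (j + 1)).1.1 (hgc j hj).le ≅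
          qt (ψ j) (ψ (j + 1)) h) := fun j hj => by
      obtain ⟨h, hiso⟩ := nonempty_qt_img (cokernel.π ι) (a := (g j).1.1) (b := (g (j + 1)).1.1)
        (hgc j hj).le (hk j hj.le)
      exact ⟨h, lt_of_le_of_ne h fun hh => (hgc j hj).lt.ne (Subtype.ext (Subtype.ext
        ((img_eq_iff (cokernel.π ι) (hk j hj.le) (hk (j + 1) hj)).1 hh))), hiso⟩
    let sQ : LTSeries (Subobject (cokernel ι)) :=
      ⟨m, fun i => ψ i.val, fun i => (hstep i.val i.2).choose_spec.1⟩
    refine ⟨sQ, ⟨?_, ?_, fun i => ⟨?_, fun p q hp hq => ?_⟩⟩, fun i z hz => ?_⟩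
    · change ψ 0 = ⊥
      simp only [ψ]
      rw [hg0]
      refine img_eq_bot _ fun x hx => (hak x).2 ?_
      rwa [show ((⟨a, hmem⟩ : StabData.MemSub hss)).1.1 = Subobject.mk ι from ha] at hx
    · change ψ m = ⊤
      simp only [ψ]
      rw [hgm]
      exact img_top (cokernel.π ι)
    · obtain ⟨h, -, ⟨j⟩⟩ := hstep i.val i.2
      exact stable_of_iso j ((Bridge.isStable_qt_iff hL hE.1 hd (hgc i.val i.2).le).2
        (StabData.iSt_of_covBy hss strict (hgc i.val i.2)).1)
    · obtain ⟨h, -, ⟨j⟩⟩ := hstep i.val i.2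
      rw [isHilbPoly_unique hp (isHilbPoly_iso j (Bridge.hilb_q hL hE.1 hd (hgc i.val i.2).le))]
      have := StabData.q_of_mem (g i.val).2 (g (i.val + 1)).2
      refine Stable.redEq_of_smul (r := red d pE) ?_ ?_
      · rw [← htop]
        exact this.symm
      · exact Stable.smul_eq_of_add ((hilb_cokernel hL hG hE.1 ι hpG hpE hq).trans (add_comm _ _))
          (Stable.alpha_smul_red hL hE hpE) hGr
    · obtain ⟨h, -, ⟨j⟩⟩ := hstep i.val i.2
      have := hG' (n + i.val) (Nat.add_lt_add_left i.2 n)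
      rw [hcg, add_assoc, hcg] at this
      exact fl_iso j (this (hgc i.val i.2).le z hz)

end Groth.L17.Simpson
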