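import Groth.Agent.L17.Simpson.FibreMap
import Groth.Agent.L20.FibreModuleScheme
import Mathlib.RingTheory.Filtration

/-!
# A map of families vanishing to first order on a closed fibre vanishes to all orders
-/

set_option autoImplicit false
set_option linter.style.haveILetI false
set_option backward.isDefEq.respectTransparency false
set_option backward.isDefEq.respectTransparency.types false

universe u

open CategoryTheory CategoryTheory.Limits AlgebraicGeometry
open scoped TensorProduct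

noncomputable section

namespace Groth.L17.Simpson

variable {A : Type u} [CommRing A] {X : Scheme.{u}} [X.Over (Spec (CommRingCat.of A))]

theorem stalk_flat_colon (F : X.Modules) (hflat : FlatMod.IsFlatOver (X ↘ Spec (CommRingCat.of A)) F) (x : X)
    (J P : Ideal A) (ε : A) (hP : ∀ a, a ∈ P ↔ a * ε ∈ J) (m : (Groth.L00.Stk.F X x).obj F)
    (h : csc x ε • m ∈ J.map (csc x) • (⊤ : Submodule (X.presheaf.stalk x) ((Groth.L00.Stk.F X x).obj F))) :
    m ∈ P.map (csc x) • (⊤ : Submodule (X.presheaf.stalk x) ((Groth.L00.Stk.F X x).obj F)) := by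
  let f := X ↘ Spec (CommRingCat.of A)
  letI : Algebra A (X.presheaf.stalk x) := (csc x).toAlgebra
  letI : Module A ((Groth.L00.Stk.F X x).obj F) := Module.compHom _ (csc x)
  haveI : IsScalarTower A (X.presheaf.stalk x) ((Groth.L00.Stk.F X x).obj F) :=
    IsScalarTower.of_algebraMap_smul fun _ _ => rfl
  haveI : Module.Flat A ((Groth.L00.Stk.F X x).obj F) := by
    letI : Algebra A ((Spec (CommRingCat.of A)).presheaf.stalk (f x)) := (ψs (f x)).toAlgebra
    letI : Module ((Spec (CommRingCat.of A)).presheaf.stalk (f x)) ((Groth.L00.Stk.F X x).obj F) :=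
      FlatMod.moduleStalkOver f F x
    haveI : IsScalarTower A ((Spec (CommRingCat.of A)).presheaf.stalk (f x)) ((Groth.L00.Stk.F X x).obj F) :=
      IsScalarTower.of_algebraMap_smul fun a n => by
        change (f.stalkMap x).hom (ψs (f x) a) • n = csc x a • n
        rw [csc_eq]; rfl
    haveI : Module.Flat ((Spec (CommRingCat.of A)).presheaf.stalk (f x)) ((Groth.L00.Stk.F X x).obj F) := hflat x
    haveI := flat_ψs (A := A) (f x)
    exact Module.Flat.trans A ((Spec (CommRingCat.of A)).presheaf.stalk (f x)) _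
  have e : ∀ (I : Ideal A) (n : (Groth.L00.Stk.F X x).obj F),
      n ∈ I.map (csc x) • (⊤ : Submodule (X.presheaf.stalk x) ((Groth.L00.Stk.F X x).obj F)) ↔
        n ∈ I • (⊤ : Submodule A ((Groth.L00.Stk.F X x).obj F)) := fun I n => by
    rw [← Submodule.restrictScalars_mem A]
    change n ∈ Submodule.restrictScalars A (I.map (algebraMap A (X.presheaf.stalk x)) • ⊤) ↔ _
    rw [Ideal.smul_restrictScalars, Submodule.restrictScalars_top]
  exact (e P m).2 (mem_of_smul_mem_of_flat J P ε hP ((e J _).1 h))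

theorem stalkMap_section_csc (σ : Spec (CommRingCat.of A) ⟶ X) (hσ : σ ≫ (X ↘ Spec (CommRingCat.of A)) = 𝟙 _)
    (s : Spec (CommRingCat.of A)) (a : A) : (σ.stalkMap s).hom (csc (σ s) a) = ψs s a := by
  have h : σ.appTop.hom ((X ↘ Spec (CommRingCat.of A)).appTop.hom ((Scheme.ΓSpecIso (CommRingCat.of A)).inv.hom a)) =
      (Scheme.ΓSpecIso (CommRingCat.of A)).inv.hom a := by
    rw [← CommRingCat.comp_apply, ← Scheme.Hom.comp_appTop, hσ]
    rfl
  exact (σ.germ_stalkMap_apply ⊤ s trivial _).trans (congrArg _ h)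

variable [IsNoetherianRing A] [IsLocallyNoetherian X]

/-- If maps between the closed fibres vanishing at the section point are zero, a map vanishing along the
section is zero at every point of that fibre. -/
theorem stalk_eq_zero (s : Spec (CommRingCat.of A)) (hmax : s.asIdeal.IsMaximal) {E F : X.Modules}
    (hF : Coh.IsCoh F) (hflat : FlatMod.IsFlatOver (X ↘ Spec (CommRingCat.of A)) F)
    {Z : Scheme.{u}} (i : Z ⟶ X) (hsurj : ∀ z, Function.Surjective (i.stalkMap z).hom)
    (hker : ∀ z, RingHom.ker (i.stalkMap z).hom = s.asIdeal.map (csc (i z)))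
    (hrange : ∀ x, (X ↘ Spec (CommRingCat.of A)) x = s → ∃ z, i z = x)
    (σ : Spec (CommRingCat.of A) ⟶ X) (hσ : σ ≫ (X ↘ Spec (CommRingCat.of A)) = 𝟙 _)
    (hfree : Fl F (σ s)) (φ : E ⟶ F) (hφ : (Scheme.Modules.pullback σ).map φ = 0)
    (z0 : Z) (hz0 : i z0 = σ s)
    (hfib : ∀ ψ : (Scheme.Modules.pullback i).obj E ⟶ (Scheme.Modules.pullback i).obj F,
      (∀ w, (Groth.L00.Stk.F Z z0).map ψ w ∈ IsLocalRing.maximalIdeal (Z.presheaf.stalk z0) •
        (⊤ : Submodule (Z.presheaf.stalk z0) ((Groth.L00.Stk.F Z z0).obj ((Scheme.Modules.pullback i).obj F)))) → ψ = 0)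
    (x : X) (hx : (X ↘ Spec (CommRingCat.of A)) x = s) (e : (Groth.L00.Stk.F X x).obj E) :
    (Groth.L00.Stk.F X x).map φ e = 0 := by
  -- every level
  suffices hlev : ∀ N : ℕ, φ ≫ qJ (s.asIdeal ^ N) F = 0 by
    haveI : Module.Finite (X.presheaf.stalk x) ((Groth.L00.Stk.F X x).obj F) :=
      Groth.L20.FibreModule.finite_stalk F hF.1 (Groth.L15.Ref.isFP_of_isCoh hF) x
    have hmem : ∀ N : ℕ, (Groth.L00.Stk.F X x).map φ e ∈ IsLocalRing.maximalIdeal (X.presheaf.stalk x) ^ N •
        (⊤ : Submodule (X.presheaf.stalk x) ((Groth.L00.Stk.F X x).obj F)) := fun N => by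
      have h := (qJ_stalk_eq_zero_iff (s.asIdeal ^ N) F x ((Groth.L00.Stk.F X x).map φ e)).1 (by
        rw [← ConcreteCategory.comp_apply, ← Functor.map_comp, hlev N, Functor.map_zero]; rfl)
      refine Submodule.smul_mono_left ?_ h
      rw [Ideal.map_pow]
      exact Ideal.pow_right_mono (hx ▸ map_csc_le (A := A) x) N
    have := (Submodule.mem_iInf _).2 hmem
    rw [Ideal.iInf_pow_smul_eq_bot_of_isLocalRing _ (IsLocalRing.maximalIdeal.isMaximal _).ne_top] at this
    exact this
  intro N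
  by_contra hN
  obtain ⟨J, ⟨hNJ, hJ⟩, hmaxJ⟩ : ∃ J : Ideal A, (s.asIdeal ^ N ≤ J ∧ φ ≫ qJ J F ≠ 0) ∧
      ∀ J' : Ideal A, (s.asIdeal ^ N ≤ J' ∧ φ ≫ qJ J' F ≠ 0) → ¬ J < J' := set_has_maximal_iff_noetherian.2 (inferInstance : IsNoetherian A A)
    {J : Ideal A | s.asIdeal ^ N ≤ J ∧ φ ≫ qJ J F ≠ 0} ⟨_, le_rfl, hN⟩
  have hJtop : J ≠ ⊤ := fun h => hJ (Groth.L21.Mod.hom_ext_stalk fun y => by
    ext v
    change (Groth.L00.Stk.F X y).map (φ ≫ qJ J F) v = (Groth.L00.Stk.F X y).map (0 : _ ⟶ _) v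
    rw [Functor.map_comp, Functor.map_zero]
    change (Groth.L00.Stk.F X y).map (qJ J F) ((Groth.L00.Stk.F X y).map φ v) = 0
    rw [qJ_stalk_eq_zero_iff, h, Ideal.map_top, Submodule.top_smul]
    trivial)
  obtain ⟨k, hk, ε, hεk, hε⟩ : ∃ k, s.asIdeal ^ (k + 1) ≤ J ∧ ∃ ε ∈ s.asIdeal ^ k, ε ∉ J := by
    classical
    have hex : ∃ k, s.asIdeal ^ k ≤ J := ⟨N, hNJ⟩
    rcases h : Nat.find hex with _ | k
    · exact absurd (eq_top_iff.2 (by simpa [h] using Nat.find_spec hex)) hJtop
    · exact ⟨k, h ▸ Nat.find_spec hex,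
        SetLike.not_le_iff_exists.1 (Nat.find_min hex (h ▸ Nat.lt_succ_self k))⟩
  have hcol : ∀ a, a ∈ s.asIdeal ↔ a * ε ∈ J := fun a => by
    refine ⟨fun ha => hk (pow_succ' s.asIdeal k ▸ Ideal.mul_mem_mul ha hεk), fun ha => ?_⟩
    by_contra hna
    obtain ⟨b, hb⟩ := hmax.exists_inv hna
    obtain ⟨p, hp, hbp⟩ := hb
    refine hε ?_
    have : ε = b * (a * ε) + p * ε := by linear_combination (norm := ring1) (-ε) * hbp
    rw [this]
    exact J.add_mem (J.mul_mem_left b ha) (hk (pow_succ' s.asIdeal k ▸ Ideal.mul_mem_mul hp hεk))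
  let J' := J ⊔ Ideal.span {ε}
  have hJ' : φ ≫ qJ J' F = 0 := by
    by_contra h
    exact hmaxJ J' ⟨hNJ.trans le_sup_left, h⟩
      (lt_of_le_of_ne le_sup_left fun he => hε (he ▸ le_sup_right (a := J) (Ideal.mem_span_singleton_self ε)))
  -- multiplication by `ε`
  have hμ0 : Formal.smulFamily s.asIdeal F ≫ Formal.smulMod A F ε ≫ qJ J F = 0 := by
    refine Sigma.hom_ext _ _ fun a => ?_
    rw [show Sigma.ι (fun _ : s.asIdeal => F) a ≫ Formal.smulFamily s.asIdeal F ≫ Formal.smulMod A F ε ≫ qJ J F =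
      Formal.smulMod A F (a : A) ≫ Formal.smulMod A F ε ≫ qJ J F from
        (Category.assoc _ _ _).symm.trans (congrArg (· ≫ _) (Sigma.ι_desc _ _)), comp_zero]
    refine Groth.L21.Mod.hom_ext_stalk fun y => ?_
    ext v
    change (Groth.L00.Stk.F X y).map (Formal.smulMod A F (a : A) ≫ Formal.smulMod A F ε ≫ qJ J F) v =
      (Groth.L00.Stk.F X y).map (0 : _ ⟶ _) v
    rw [Functor.map_zero, Functor.map_comp, Functor.map_comp]
    change (Groth.L00.Stk.F X y).map (qJ J F) ((Groth.L00.Stk.F X y).map (Formal.smulMod A F ε)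
      ((Groth.L00.Stk.F X y).map (Formal.smulMod A F (a : A)) v)) = 0
    rw [qJ_stalk_eq_zero_iff, stalk_smul, stalk_smul, smul_smul, ← map_mul]
    exact Submodule.smul_mem_smul (Ideal.mem_map_of_mem _ (mul_comm (a : A) ε ▸ (hcol a).1 a.2)) trivial
  let μ : cokernel (Formal.smulFamily s.asIdeal F) ⟶ cokernel (Formal.smulFamily J F) :=
    cokernel.desc _ (Formal.smulMod A F ε ≫ qJ J F) hμ0
  have hμ : ∀ (y : X) (v : (Groth.L00.Stk.F X y).obj F),
      (Groth.L00.Stk.F X y).map μ ((Groth.L00.Stk.F X y).map (qJ s.asIdeal F) v) =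
        (Groth.L00.Stk.F X y).map (qJ J F) (csc y ε • v) := fun y v => by
    rw [← ConcreteCategory.comp_apply, ← Functor.map_comp, cokernel.π_desc, Functor.map_comp,
      ConcreteCategory.comp_apply, stalk_smul]
  haveI : Mono μ := by
    refine (Groth.L21.Mod.mono_iff_stalk_injective μ).2 fun y => ?_
    refine (injective_iff_map_eq_zero _).2 fun w hw => ?_
    obtain ⟨v, rfl⟩ := qJ_stalk_surjective s.asIdeal F y w
    replace hw : (Groth.L00.Stk.F X y).map μ ((Groth.L00.Stk.F X y).map (qJ s.asIdeal F) v) = 0 := hw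
    rw [hμ, qJ_stalk_eq_zero_iff] at hw
    exact (qJ_stalk_eq_zero_iff _ _ _ _).2 (stalk_flat_colon F hflat y J _ ε hcol v hw)
  have hrangeμ : (φ ≫ qJ J F) ≫ cokernel.π μ = 0 := Groth.L21.Mod.hom_ext_stalk fun y => by
    ext v
    change (Groth.L00.Stk.F X y).map ((φ ≫ qJ J F) ≫ cokernel.π μ) v = (Groth.L00.Stk.F X y).map (0 : _ ⟶ _) v
    rw [Functor.map_zero, Functor.map_comp, Functor.map_comp]
    change (Groth.L00.Stk.F X y).map (cokernel.π μ)
      ((Groth.L00.Stk.F X y).map (qJ J F) ((Groth.L00.Stk.F X y).map φ v)) = 0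
    have h := (qJ_stalk_eq_zero_iff J' F y ((Groth.L00.Stk.F X y).map φ v)).1 (by
      rw [← ConcreteCategory.comp_apply, ← Functor.map_comp, hJ', Functor.map_zero]; rfl)
    rw [Ideal.map_sup, Submodule.sup_smul, Submodule.mem_sup] at h
    obtain ⟨p, hp, r, hr, hpr⟩ := h
    rw [Ideal.map_span, Set.image_singleton, Submodule.ideal_span_singleton_smul,
      Submodule.mem_smul_pointwise_iff_exists] at hr
    obtain ⟨m, -, rfl⟩ := hr
    rw [← hpr, map_add, (qJ_stalk_eq_zero_iff _ _ _ _).2 hp, zero_add, ← hμ, ← ConcreteCategory.comp_apply,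
      ← Functor.map_comp, cokernel.condition, Functor.map_zero]
    rfl
  let ψ0 := Abelian.monoLift μ (φ ≫ qJ J F) hrangeμ
  have hψ0 : ψ0 ≫ μ = φ ≫ qJ J F := Abelian.monoLift_comp _ _ _
  have hval : ∀ (y : X) (v : (Groth.L00.Stk.F X y).obj E), ∃ m : (Groth.L00.Stk.F X y).obj F,
      (Groth.L00.Stk.F X y).map ψ0 v = (Groth.L00.Stk.F X y).map (qJ s.asIdeal F) m ∧
        csc y ε • m - (Groth.L00.Stk.F X y).map φ v ∈
          J.map (csc y) • (⊤ : Submodule (X.presheaf.stalk y) ((Groth.L00.Stk.F X y).obj F)) := fun y v => by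
    obtain ⟨m, hm⟩ := qJ_stalk_surjective s.asIdeal F y ((Groth.L00.Stk.F X y).map ψ0 v)
    refine ⟨m, hm.symm, (qJ_stalk_eq_zero_iff _ _ _ _).1 ?_⟩
    rw [map_sub, ← hμ, hm, ← ConcreteCategory.comp_apply, ← ConcreteCategory.comp_apply, ← Functor.map_comp,
      ← Functor.map_comp, hψ0, sub_self]
  -- at the section
  have hx0 : (X ↘ Spec (CommRingCat.of A)) (σ s) = s := by
    rw [← Scheme.Hom.comp_apply, hσ]; rfl
  have hsec : ∀ v, (Groth.L00.Stk.F X (σ s)).map ψ0 v ∈ IsLocalRing.maximalIdeal (X.presheaf.stalk (σ s)) •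
      (⊤ : Submodule (X.presheaf.stalk (σ s))
        ((Groth.L00.Stk.F X (σ s)).obj (cokernel (Formal.smulFamily s.asIdeal F)))) := fun v => by
    let O := X.presheaf.stalk (σ s)
    let M := (Groth.L00.Stk.F X (σ s)).obj F
    haveI : Module.Finite O M := Groth.L20.FibreModule.finite_stalk F hF.1 (Groth.L15.Ref.isFP_of_isCoh hF) _
    haveI : Module.Flat O M := hfree
    haveI : Module.Free O M := Module.free_of_flat_of_isLocalRing
    let b := Module.Free.chooseBasis O M
    obtain ⟨m, hm, hmem⟩ := hval (σ s) v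
    have hφ0 : ∀ j, (σ.stalkMap s).hom (b.coord j ((Groth.L00.Stk.F X (σ s)).map φ v)) = 0 := fun j => by
      let p := Groth.L00.PullStalk.φ σ s
      letI := p.toAlgebra
      have h0 : (ModuleCat.extendScalars p).map ((Groth.L00.Stk.F X (σ s)).map φ) = 0 := by
        refine (cancel_epi ((Groth.L00.PullStalk.stalkIso σ s).hom.app E)).1 ?_
        refine ((Groth.L00.PullStalk.stalkIso σ s).hom.naturality φ).symm.trans ?_
        simp only [Functor.comp_map, hφ, Functor.map_zero, zero_comp, comp_zero]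
      have h1 : (1 : (Spec (CommRingCat.of A)).presheaf.stalk s) ⊗ₜ[O] ((Groth.L00.Stk.F X (σ s)).map φ v) = 0 :=
        congrArg (fun g => g ((1 : (Spec (CommRingCat.of A)).presheaf.stalk s) ⊗ₜ[O] v)) h0
      have h2 := congrArg (LinearMap.mul' O ((Spec (CommRingCat.of A)).presheaf.stalk s) ∘ₗ
        LinearMap.lTensor _ (Algebra.linearMap O ((Spec (CommRingCat.of A)).presheaf.stalk s) ∘ₗ b.coord j)) h1
      simp only [LinearMap.coe_comp, Function.comp_apply, LinearMap.lTensor_tmul, LinearMap.mul'_apply,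
        one_mul, map_zero, Algebra.linearMap_apply] at h2
      exact h2
    have hcoord : ∀ j, b.coord j m ∈ IsLocalRing.maximalIdeal O := fun j => by
      by_contra hunit
      rw [IsLocalRing.mem_maximalIdeal, mem_nonunits_iff, not_not] at hunit
      have h3 := Submodule.mem_map_of_mem (f := b.coord j) hmem
      rw [Submodule.map_smul''] at h3
      have h4 : b.coord j (csc (σ s) ε • m - (Groth.L00.Stk.F X (σ s)).map φ v) ∈ J.map (csc (σ s)) :=
        Submodule.smul_le.2 (fun r hr n _ => Ideal.mul_mem_right n _ hr) h3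
      rw [map_sub, map_smul, smul_eq_mul] at h4
      have h5 := Ideal.mem_map_of_mem (σ.stalkMap s).hom h4
      rw [map_sub, map_mul, hφ0, sub_zero, Ideal.map_map,
        show (σ.stalkMap s).hom.comp (csc (σ s)) = ψs s from RingHom.ext (stalkMap_section_csc σ hσ s),
        stalkMap_section_csc σ hσ s, Ideal.mul_unit_mem_iff_mem _ (hunit.map (σ.stalkMap s).hom),
        ψs_mem_map_iff] at h5
      obtain ⟨w, hw, hwJ⟩ := h5
      exact hw ((hcol w).2 hwJ)
    rw [hm]
    have hmm : m ∈ IsLocalRing.maximalIdeal O • (⊤ : Submodule O M) := by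
      rw [← b.linearCombination_repr m, Finsupp.linearCombination_apply]
      exact Submodule.sum_mem _ fun j _ => Submodule.smul_mem_smul (hcoord j) trivial
    have := Submodule.mem_map_of_mem (f := ((Groth.L00.Stk.F X (σ s)).map (qJ s.asIdeal F)).hom) hmm
    rw [Submodule.map_smul''] at this
    exact Submodule.smul_mono le_rfl le_top this
  -- on the fibre
  haveI := isIso_pullback_qJ i s.asIdeal F fun z a ha =>
    RingHom.mem_ker.1 (hker z ▸ Ideal.mem_map_of_mem _ ha)
  have hψt : (Scheme.Modules.pullback i).map ψ0 ≫ inv ((Scheme.Modules.pullback i).map (qJ s.asIdeal F)) = 0 := by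
    refine hfib _ fun w => ?_
    rw [Functor.map_comp]
    have h := pullback_stalk_mem i ψ0 z0 (hz0 ▸ hsec) w
    have := Submodule.mem_map_of_mem (f := ((Groth.L00.Stk.F Z z0).map
      (inv ((Scheme.Modules.pullback i).map (qJ s.asIdeal F)))).hom) h
    rw [Submodule.map_smul''] at this
    exact Submodule.smul_mono le_rfl le_top this
  have hi0 : (Scheme.Modules.pullback i).map ψ0 = 0 := by
    rw [← cancel_mono (inv ((Scheme.Modules.pullback i).map (qJ s.asIdeal F))), hψt, zero_comp]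
  have hzero : ψ0 = 0 := Groth.L21.Mod.hom_ext_stalk fun y => by
    ext v
    change (Groth.L00.Stk.F X y).map ψ0 v = (Groth.L00.Stk.F X y).map (0 : _ ⟶ _) v
    rw [Functor.map_zero]
    change _ = 0
    have hkill : ∀ u, ∀ a ∈ s.asIdeal, csc (A := A) y a • ((Groth.L00.Stk.F X y).map (qJ s.asIdeal F) u) = 0 :=
      fun u a ha => by
        rw [← map_smul, qJ_stalk_eq_zero_iff]
        exact Submodule.smul_mem_smul (Ideal.mem_map_of_mem _ ha) trivial
    by_cases hy : (X ↘ Spec (CommRingCat.of A)) y = s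
    · obtain ⟨z, rfl⟩ := hrange y hy
      have h := mem_ker_of_pullback_eq_zero i ψ0 z (hsurj z) hi0 v
      rw [hker z] at h
      refine Submodule.smul_induction_on h (fun r hr n _ => ?_) (fun a b ha hb => by rw [ha, hb, add_zero])
      obtain ⟨u, rfl⟩ := qJ_stalk_surjective s.asIdeal F (i z) n
      refine Submodule.span_induction (p := fun r _ => r • _ = (0 : (Groth.L00.Stk.F X (i z)).obj _)) ?_ ?_ ?_ ?_ hr
      · rintro _ ⟨a, ha, rfl⟩; exact hkill u a ha
      · exact zero_smul _ _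
      · intro a b _ _ ha hb; rw [add_smul, ha, hb, add_zero]
      · intro a b _ hb; rw [smul_assoc, hb, smul_zero]
    · obtain ⟨u, hu⟩ := qJ_stalk_surjective s.asIdeal F y ((Groth.L00.Stk.F X y).map ψ0 v)
      rw [← hu]
      obtain ⟨a, ha, hay⟩ : ∃ a ∈ s.asIdeal, a ∉ ((X ↘ Spec (CommRingCat.of A)) y).asIdeal :=
        SetLike.not_le_iff_exists.1 fun hle => hy (PrimeSpectrum.ext
          (hmax.eq_of_le ((X ↘ Spec (CommRingCat.of A)) y).isPrime.ne_top hle).symm)
      have hu' : IsUnit (csc (A := A) y a) := by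
        rw [csc_eq]
        refine IsUnit.map ((X ↘ Spec (CommRingCat.of A)).stalkMap y).hom ?_
        letI := (ψs ((X ↘ Spec (CommRingCat.of A)) y)).toAlgebra
        haveI := isLocalization_ψs ((X ↘ Spec (CommRingCat.of A)) y)
        exact IsLocalization.map_units _ (⟨a, hay⟩ : ((X ↘ Spec (CommRingCat.of A)) y).asIdeal.primeCompl)
      exact (IsUnit.smul_eq_zero hu').1 (hkill u a ha)
  exact hJ (by rw [← hψ0, hzero, zero_comp])

end Groth.L17.Simpson
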