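import Groth.Agent.L16.HomSh.ModPowSect
import Groth.Agent.L20.ModStalk
import Groth.Agent.L17.Simpson.FreeAt

/-!
# Quotients of a module by an ideal of the base ring, on stalks
-/

set_option autoImplicit false
set_option linter.style.haveILetI false
set_option backward.isDefEq.respectTransparency false
set_option backward.isDefEq.respectTransparency.types false

universe u

open CategoryTheory CategoryTheory.Limits AlgebraicGeometry
open scoped TensorProduct

noncomputable section

namespace Groth.L17.Simpson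

variable {A : Type u} [CommRing A]

/-- The base ring in a local ring of `Spec A`. -/
def ψs (s : Spec (CommRingCat.of A)) : A →+* (Spec (CommRingCat.of A)).presheaf.stalk s :=
  ((Spec (CommRingCat.of A)).presheaf.germ ⊤ s trivial).hom.comp (Scheme.ΓSpecIso (CommRingCat.of A)).inv.hom

theorem isLocalization_ψs (s : Spec (CommRingCat.of A)) :
    @IsLocalization.AtPrime A _ ((Spec (CommRingCat.of A)).presheaf.stalk s) _ (ψs s).toAlgebra s.asIdeal
      s.isPrime :=
  StructureSheaf.IsLocalization.to_stalk (CommRingCat.of A) s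

theorem ψs_mem_map_iff (s : Spec (CommRingCat.of A)) (J : Ideal A) (a : A) :
    ψs s a ∈ J.map (ψs s) ↔ ∃ u ∉ s.asIdeal, u * a ∈ J := by
  letI := (ψs s).toAlgebra
  haveI := isLocalization_ψs s
  exact IsLocalization.algebraMap_mem_map_algebraMap_iff s.asIdeal.primeCompl _ J a

theorem map_ψs_eq (s : Spec (CommRingCat.of A)) :
    s.asIdeal.map (ψs s) = IsLocalRing.maximalIdeal ((Spec (CommRingCat.of A)).presheaf.stalk s) := by
  letI := (ψs s).toAlgebra
  haveI := isLocalization_ψs s
  exact IsLocalization.AtPrime.map_eq_maximalIdeal s.asIdeal _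

theorem flat_ψs (s : Spec (CommRingCat.of A)) :
    @Module.Flat A ((Spec (CommRingCat.of A)).presheaf.stalk s) _ _ (ψs s).toAlgebra.toModule := by
  letI := (ψs s).toAlgebra
  haveI := isLocalization_ψs s
  exact IsLocalization.flat _ s.asIdeal.primeCompl

variable {X : Scheme.{u}} [X.Over (Spec (CommRingCat.of A))]

/-- The base ring in a local ring of the scheme. -/
def csc (x : X) : A →+* X.presheaf.stalk x :=
  (X.presheaf.germ ⊤ x trivial).hom.comp (Coh.toGlobal (X ↘ Spec (CommRingCat.of A)))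

theorem csc_eq (x : X) :
    csc (A := A) x = ((X ↘ Spec (CommRingCat.of A)).stalkMap x).hom.comp (ψs ((X ↘ Spec (CommRingCat.of A)) x)) :=
  RingHom.ext fun a => ((X ↘ Spec (CommRingCat.of A)).germ_stalkMap_apply ⊤ x trivial
    ((Scheme.ΓSpecIso (CommRingCat.of A)).inv.hom a)).symm

theorem map_csc_eq (x : X) (J : Ideal A) :
    J.map (csc x) = (J.map (ψs ((X ↘ Spec (CommRingCat.of A)) x))).map
      ((X ↘ Spec (CommRingCat.of A)).stalkMap x).hom := by
  rw [Ideal.map_map, csc_eq]

theorem map_csc_le (x : X) : ((X ↘ Spec (CommRingCat.of A)) x).asIdeal.map (csc (A := A) x) ≤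
    IsLocalRing.maximalIdeal (X.presheaf.stalk x) := by
  rw [map_csc_eq, map_ψs_eq]
  exact Ideal.map_le_iff_le_comap.2 fun a ha => map_nonunit _ a ha

theorem stalk_smul (F : X.Modules) (a : A) (x : X) (v : (Groth.L00.Stk.F X x).obj F) :
    (Groth.L00.Stk.F X x).map (Formal.smulMod A F a) v = csc x a • v := by
  obtain ⟨U, hx, s, rfl⟩ := TopCat.Presheaf.exists_germ_eq F.presheaf v
  refine (Groth.L21.Mod.stalkF_map_germ (Formal.smulMod A F a) _ x hx s).trans ?_
  rw [Groth.L16.HomSh.smulMod_app]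
  refine (Groth.L20.ModStalk.germ_smul F hx _ s).trans ?_
  congr 1
  exact TopCat.Presheaf.germ_res_apply X.presheaf (homOfLE le_top : U ⟶ ⊤) x hx _

/-- The quotient `F ⟶ F/JF`. -/
abbrev qJ (J : Ideal A) (F : X.Modules) : F ⟶ cokernel (Formal.smulFamily J F) :=
  cokernel.π (Formal.smulFamily J F)

/-- The stalk kernel of `F ⟶ F/JF`. -/
theorem qJ_stalk_eq_zero_iff (J : Ideal A) (F : X.Modules) (x : X) (v : (Groth.L00.Stk.F X x).obj F) :
    (Groth.L00.Stk.F X x).map (qJ J F) v = 0 ↔
      v ∈ J.map (csc x) • (⊤ : Submodule (X.presheaf.stalk x) ((Groth.L00.Stk.F X x).obj F)) := by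
  let Φ := Groth.L00.Stk.F X x
  constructor
  · intro h
    have hex := ((ShortComplex.exact_cokernel (Formal.smulFamily J F)).map Φ)
    obtain ⟨w, hw⟩ := (ShortComplex.moduleCat_exact_iff _).1 hex v h
    let W : Submodule (X.presheaf.stalk x) (Φ.obj F) := J.map (csc x) • ⊤
    have h0 : Φ.map (Formal.smulFamily J F) ≫ ModuleCat.ofHom W.mkQ = 0 := by
      refine (isColimitOfPreserves Φ (coproductIsCoproduct fun _ : J => F)).hom_ext fun a => ?_
      obtain ⟨a⟩ := a
      ext u
      change W.mkQ (Φ.map (Formal.smulFamily J F) (Φ.map (Sigma.ι (fun _ : J => F) a) u)) = W.mkQ _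
      rw [← ConcreteCategory.comp_apply, ← Φ.map_comp, show Sigma.ι (fun _ : J => F) a ≫
        Formal.smulFamily J F = Formal.smulMod A F (a : A) from Sigma.ι_desc _ _, stalk_smul]
      refine ((Submodule.Quotient.mk_eq_zero W).2 ?_).trans ?_
      · exact Submodule.smul_mem_smul (Ideal.mem_map_of_mem _ a.2) trivial
      · exact (map_zero W.mkQ).symm.trans (congrArg W.mkQ rfl)
    rw [← hw]
    exact (Submodule.Quotient.mk_eq_zero W).1 (congrArg (fun g => g w) h0)
  · intro h
    refine Submodule.smul_induction_on h (fun r hr n _ => ?_) (fun a b ha hb => ?_)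
    · rw [map_smul]
      have hn : ∀ a ∈ J, csc (A := A) x a • (Φ.map (qJ J F)).hom n = 0 := fun a ha => by
        rw [← map_smul, ← stalk_smul]
        change ((Φ.map (Formal.smulMod A F a)) ≫ Φ.map (qJ J F)) n = 0
        rw [← Φ.map_comp, show Formal.smulMod A F a ≫ qJ J F = 0 by
          rw [show Formal.smulMod A F a = Sigma.ι (fun _ : J => F) ⟨a, ha⟩ ≫ Formal.smulFamily J F from
            (Sigma.ι_desc (fun b : J => Formal.smulMod A F (b : A)) ⟨a, ha⟩).symm, Category.assoc,
            cokernel.condition, comp_zero]]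
        simp
      refine Submodule.span_induction (p := fun r _ => r • (Φ.map (qJ J F)).hom n = 0) ?_ ?_ ?_ ?_ hr
      · rintro _ ⟨a, ha, rfl⟩; exact hn a ha
      · exact zero_smul _ _
      · intro a b _ _ ha hb; rw [add_smul, ha, hb, add_zero]
      · intro a b _ hb; rw [smul_assoc, hb, smul_zero]
    · rw [map_add, ha, hb, add_zero]

theorem qJ_stalk_surjective (J : Ideal A) (F : X.Modules) (x : X) :
    Function.Surjective ((Groth.L00.Stk.F X x).map (qJ J F)) :=
  (ModuleCat.epi_iff_surjective _).1 inferInstance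

/-- Flatness: if `(J : ε) = P` then `εm ∈ JM` forces `m ∈ PM`. -/
theorem mem_of_smul_mem_of_flat {R M : Type u} [CommRing R] [AddCommGroup M] [Module R M] [Module.Flat R M]
    (J P : Ideal R) (ε : R) (hP : ∀ a, a ∈ P ↔ a * ε ∈ J) {m : M} (h : ε • m ∈ J • (⊤ : Submodule R M)) :
    m ∈ P • (⊤ : Submodule R M) := by
  have hle : P ≤ LinearMap.ker (J.mkQ ∘ₗ LinearMap.mulRight R ε) := fun a ha =>
    (Submodule.Quotient.mk_eq_zero J).2 ((hP a).1 ha)
  let μ : (R ⧸ P) →ₗ[R] (R ⧸ J) := Submodule.liftQ P (J.mkQ ∘ₗ LinearMap.mulRight R ε) hle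
  have hμ : Function.Injective μ := by
    rw [← LinearMap.ker_eq_bot, Submodule.ker_liftQ_eq_bot']
    ext a
    simp only [LinearMap.mem_ker, LinearMap.coe_comp, Function.comp_apply, LinearMap.mulRight_apply,
      Submodule.mkQ_apply]
    rw [Submodule.Quotient.mk_eq_zero]
    exact hP a
  have hinj := Module.Flat.rTensor_preserves_injective_linearMap (M := M) μ hμ
  have e1 : TensorProduct.quotTensorEquivQuotSMul M J ((μ.rTensor M) ((Ideal.Quotient.mk P 1) ⊗ₜ[R] m)) = 0 := by
    rw [LinearMap.rTensor_tmul]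
    change TensorProduct.quotTensorEquivQuotSMul M J ((Ideal.Quotient.mk J (1 * ε)) ⊗ₜ[R] m) = 0
    rw [one_mul, TensorProduct.quotTensorEquivQuotSMul_mk_tmul]
    exact (Submodule.Quotient.mk_eq_zero _).2 h
  rw [LinearEquiv.map_eq_zero_iff, ← map_zero (μ.rTensor M)] at e1
  have e2 := congrArg (TensorProduct.quotTensorEquivQuotSMul M P) (hinj e1)
  rw [map_zero, TensorProduct.quotTensorEquivQuotSMul_mk_tmul, one_smul] at e2
  exact (Submodule.Quotient.mk_eq_zero _).1 e2

end Groth.L17.Simpson
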